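import Groth.Agent.AdjunctBC16.DegOne

/-!
# The twisting sheaves and base change of the base ring

For a graded `R`-algebra `A` and `B = A ⊗[R] R'`, the adjunct of `O(n) ⟶ h_* O(n)` is an isomorphism for every `n`,
without any assumption on the degrees of generators.
-/

set_option autoImplicit false
set_option backward.isDefEq.respectTransparency false
set_option backward.isDefEq.respectTransparency.types false
set_option linter.style.haveILetI false
set_option linter.unusedSectionVars false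

universe u

open CategoryTheory AlgebraicGeometry TopologicalSpace DirectSum Opposite
open HomogeneousLocalization (Away)
open scoped HomogeneousIdeal

noncomputable section

namespace Groth.Agent.AdjunctBC16

open Groth.Agent Groth.Agent.GrModX

section One

variable {A σ : Type u} [CommRing A] [SetLike σ A] [AddSubgroupClass σ A] (𝒜 : ℕ → σ) [GradedRing 𝒜]
variable {R : Type u} [CommRing R] [Algebra R A] (hA : ∀ r, algebraMap R A r ∈ 𝒜 0)
variable {d : ℕ} {f : A} (hf : f ∈ 𝒜 d) (n : ℤ)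

omit [GradedRing 𝒜] in
theorem mem_zero_nsmul {a : A} (ha : a ∈ 𝒜 0) : a ∈ 𝒜 (0 • d) := by rwa [zero_smul]

/-- The structure map `R → Γ(D f)`. -/
def strHom : R →+* Γ(Proj 𝒜, Proj.basicOpen 𝒜 f) where
  toFun r := away 𝒜 hf 0 (mem_zero_nsmul 𝒜 (hA r))
  map_one' := by
    rw [← away_pow_eq_one 𝒜 hf 0]
    congr 1
    rw [map_one, pow_zero]
  map_mul' r r' := by
    rw [← away_mul 𝒜 hf 0 0 _ _ (mem_zero_nsmul 𝒜 (by rw [← map_mul]; exact hA _))]
    congr 1
    exact map_mul _ _ _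
  map_zero' := by
    rw [← away_zero 𝒜 hf 0]
    congr 1
    exact map_zero _
  map_add' r r' := by
    rw [← away_add 𝒜 hf 0]
    congr 1
    exact map_add _ _ _

theorem strHom_apply (r : R) : strHom 𝒜 hA hf r = away 𝒜 hf 0 (mem_zero_nsmul 𝒜 (hA r)) := rfl

include hA in
theorem smul_mem_deg {i : ℕ} {a : A} (ha : a ∈ 𝒜 i) (r : R) : r • a ∈ 𝒜 i := by
  rw [Algebra.smul_def]
  simpa using SetLike.mul_mem_graded (hA r) ha

include hA in
theorem smul_deg {z : ℤ} {a : A} (ha : Deg 𝒜 z a) (r : R) : Deg 𝒜 z (algebraMap R A r • a) :=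
  (ha.smul 𝒜 (hA r)).congr (zero_add _)

theorem strHom_smul_frac {k : ℕ} {a : A} (ha : Deg 𝒜 ((k : ℤ) * d + n) a) (r : R) :
    strHom 𝒜 hA hf r • frac 𝒜 𝒜 hf n k ha = frac 𝒜 𝒜 hf n k (smul_deg 𝒜 hA ha r) := by
  rw [strHom_apply, away_smul_frac]
  exact frac_eq 𝒜 hf _ _ (by rw [zero_add])

open Classical in
/-- The component in degree `i`: the fraction `a / f ^ k` when `i = k * d + n`. -/
def omegaDHom (i : ℕ) : 𝒜 i →+ Γ(GrMod.tilde 𝒜 𝒜 n, Proj.basicOpen 𝒜 f) :=
  if h : ∃ k : ℕ, (i : ℤ) = (k : ℤ) * d + n then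
    AddMonoidHom.mk' (fun a => frac 𝒜 𝒜 hf n h.choose ((deg_of_mem a.2).congr h.choose_spec))
      fun a a' => frac_add 𝒜 hf _ ((deg_of_mem a.2).congr h.choose_spec) ((deg_of_mem a'.2).congr h.choose_spec)
  else 0

/-- The fractions attached to the homogeneous components. -/
def omegaD : A →+ Γ(GrMod.tilde 𝒜 𝒜 n, Proj.basicOpen 𝒜 f) :=
  (DirectSum.toAddMonoid (omegaDHom 𝒜 hf n)).comp (decomposeAddEquiv 𝒜).toAddMonoidHom

variable {n}

theorem omegaD_of_mem {i : ℕ} {a : A} (ha : a ∈ 𝒜 i) : omegaD 𝒜 hf n a = omegaDHom 𝒜 hf n i ⟨a, ha⟩ := by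
  show DirectSum.toAddMonoid _ (decompose 𝒜 a) = _
  rw [decompose_of_mem 𝒜 ha, DirectSum.toAddMonoid_of]

theorem omegaD_of_deg (hd : 0 < d) {k : ℕ} {a : A} (ha : Deg 𝒜 ((k : ℤ) * d + n) a) :
    omegaD 𝒜 hf n a = frac 𝒜 𝒜 hf n k ha := by
  rcases id ha with rfl | ⟨i, hi, hai⟩
  · rw [map_zero, frac_zero]
  · rw [omegaD_of_mem 𝒜 hf hai, omegaDHom, dif_pos ⟨k, hi⟩]
    simp only [AddMonoidHom.mk'_apply]
    refine frac_eq 𝒜 hf _ _ ?_
    have h : ∃ k : ℕ, (i : ℤ) = (k : ℤ) * d + n := ⟨k, hi⟩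
    have e : h.choose = k := by
      have h1 : (h.choose : ℤ) * d = (k : ℤ) * d := by linarith [h.choose_spec, hi]
      exact_mod_cast mul_right_cancel₀ (by exact_mod_cast hd.ne' : (d : ℤ) ≠ 0) h1
    rw [e]

theorem omegaD_smul (hd : 0 < d) (r : R) (a : A) :
    omegaD 𝒜 hf n (r • a) = strHom 𝒜 hA hf r • omegaD 𝒜 hf n a := by
  classical
  induction a using Decomposition.inductionOn 𝒜 with
  | zero => rw [smul_zero, map_zero, smul_zero]
  | add a a' h h' => rw [smul_add, map_add, map_add, smul_add, h, h']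
  | @homogeneous i a =>
    by_cases hk : ∃ k : ℕ, (i : ℤ) = (k : ℤ) * d + n
    · obtain ⟨k, hk⟩ := hk
      rw [omegaD_of_deg 𝒜 hf hd ((deg_of_mem a.2).congr hk),
        omegaD_of_deg 𝒜 hf hd ((deg_of_mem (smul_mem_deg 𝒜 hA a.2 r)).congr hk), strHom_smul_frac]
      exact frac_congr 𝒜 hf _ (Algebra.smul_def r (a : A)) _ _
    · rw [omegaD_of_mem 𝒜 hf (smul_mem_deg 𝒜 hA a.2 r), omegaD_of_mem 𝒜 hf a.2, omegaDHom, dif_neg hk,
        AddMonoidHom.zero_apply, AddMonoidHom.zero_apply, smul_zero]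

end One

section Map

variable {A σ : Type u} [CommRing A] [SetLike σ A] [AddSubgroupClass σ A] {𝒜 : ℕ → σ} [GradedRing 𝒜]
  {B σ' : Type u} [CommRing B] [SetLike σ' B] [AddSubgroupClass σ' B] {ℬ : ℕ → σ'} [GradedRing ℬ]
  (φ : 𝒜 →+*ᵍ ℬ) (hφ : ℬ₊ ≤ (𝒜₊).map φ)
  {R R' : Type u} [CommRing R] [CommRing R'] [Algebra R A] [Algebra R' B] (ι : R →+* R')

/-- A homomorphism of graded rings as a semilinear map. -/
def semiSelf : A →ₛₗ[φ.toRingHom] B where
  toFun := φ
  map_add' := map_add φ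
  map_smul' a b := map_mul φ a b

theorem semiSelf_mem (i : ℕ) (a : A) (ha : a ∈ 𝒜 i) : semiSelf φ a ∈ ℬ i := φ.map_mem ha

variable (hA : ∀ r, algebraMap R A r ∈ 𝒜 0) (hB : ∀ r, algebraMap R' B r ∈ ℬ 0)
  (hι : ∀ r, φ (algebraMap R A r) = algebraMap R' B (ι r))
  (hbc : IsBC ι φ.toRingHom.toAddMonoidHom)

include hι in
theorem map_smul_ι (r : R) (a : A) : φ (r • a) = ι r • φ a := by
  rw [Algebra.smul_def, Algebra.smul_def, map_mul, hι]

include hbc in
theorem span_range_eq_top : Submodule.span R' (Set.range φ) = ⊤ := by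
  let S := Submodule.span R' (Set.range φ)
  obtain ⟨g, -, hu⟩ := hbc (B ⧸ S) 0 fun r a => (smul_zero (ι r)).symm
  have h1 : S.mkQ = g := hu _ fun a => (Submodule.Quotient.mk_eq_zero S).2 (Submodule.subset_span ⟨a, rfl⟩)
  have h2 : (0 : B →ₗ[R'] B ⧸ S) = g := hu _ fun _ => rfl
  show S = ⊤
  rw [← Submodule.ker_mkQ S, h1, ← h2, LinearMap.ker_zero]

include hbc hB in
/-- Each degree of `B` is spanned by the image of the same degree of `A`. -/
theorem mem_span_image {i : ℕ} {b : B} (hb : b ∈ ℬ i) :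
    b ∈ Submodule.span R' (φ '' {a | a ∈ 𝒜 i}) := by
  classical
  have h : b ∈ Submodule.span R' (Set.range φ) := span_range_eq_top φ ι hbc ▸ Submodule.mem_top
  suffices hp : (decompose ℬ b i : B) ∈ Submodule.span R' (φ '' {a | a ∈ 𝒜 i}) by
    rwa [decompose_of_mem_same ℬ hb] at hp
  clear hb
  induction h using Submodule.span_induction with
  | mem b h =>
    obtain ⟨a, rfl⟩ := h
    exact Submodule.subset_span ⟨_, SetLike.coe_mem (decompose 𝒜 a i), GradedRingHom.map_directSumDecompose 𝒜 ℬ φ⟩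
  | zero => simp
  | add x y _ _ hx hy =>
    rw [decompose_add, DirectSum.add_apply, AddMemClass.coe_add]
    exact add_mem hx hy
  | smul r x _ hx =>
    rw [Algebra.smul_def, coe_decompose_mul_of_left_mem_of_le ℬ (hB r) (Nat.zero_le i), Nat.sub_zero,
      ← Algebra.smul_def]
    exact Submodule.smul_mem _ _ hx

variable {d : ℕ} {f : A} (hf : f ∈ 𝒜 d) {n : ℤ}

include hι in
theorem appLE_strHom (r : R) :
    ((Proj.map φ hφ).appLE (Proj.basicOpen 𝒜 f) (Proj.basicOpen ℬ (φ f)) (basicOpen_le_preimage φ hφ)).hom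
        (strHom 𝒜 hA hf r) = strHom ℬ hB (psi_mem φ hf) (ι r) := by
  rw [strHom_apply, appLE_away, strHom_apply]
  congr 1
  exact hι r

include hA hB hι hbc hf in
/-- On `D(f)` the sections of the twisting sheaf of `B` are the base change of those of `A`. -/
theorem isBC_comap_of_baseRing (hd : 0 < d) :
    IsBC ((Proj.map φ hφ).appLE (Proj.basicOpen 𝒜 f) (Proj.basicOpen ℬ (φ f)) (basicOpen_le_preimage φ hφ)).hom
      (secMap (Proj.map φ hφ) (GrMod.comap φ hφ (semiSelf φ) (semiSelf_mem φ) n) (V := Proj.basicOpen 𝒜 f)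
        (basicOpen_le_preimage φ hφ)) := by
  have hg := psi_mem φ hf
  refine isBC_comap φ hφ (semiSelf φ) (semiSelf_mem φ) hf hd ?_ ?_
  · intro k y hy
    rcases id hy with rfl | ⟨i, hi, hyi⟩
    · rw [frac_zero]; exact zero_mem _
    rw [← omegaD_of_deg ℬ hg hd hy]
    have h := mem_span_image φ ι hB hbc hyi
    clear hy hyi
    induction h using Submodule.span_induction with
    | mem y h =>
      obtain ⟨a, ha, rfl⟩ := h
      have ha' : φ a ∈ ℬ i := φ.map_mem ha
      rw [omegaD_of_deg ℬ hg hd ((deg_of_mem ha').congr hi)]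
      refine Submodule.subset_span ⟨frac 𝒜 𝒜 hf n k ((deg_of_mem ha).congr hi), ?_⟩
      rw [secMap_frac]
    | zero => rw [map_zero]; exact zero_mem _
    | add x y _ _ hx hy => rw [map_add]; exact add_mem hx hy
    | smul r x _ hx => rw [omegaD_smul ℬ hB hg hd]; exact Submodule.smul_mem _ _ hx
  · intro Q _ _ w hw
    letI : Module R' Q := Module.compHom Q (strHom ℬ hB hg)
    let w' : A →+ Q := w.comp (omegaD 𝒜 hf n)
    obtain ⟨L, hL, -⟩ := hbc Q w' fun r a => by
      show w (omegaD 𝒜 hf n (r • a)) = strHom ℬ hB hg (ι r) • w (omegaD 𝒜 hf n a)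
      rw [omegaD_smul 𝒜 hA hf hd, strHom_apply, hw 0]
      congr 1
      rw [strHom_apply]
      congr 1
      exact hι r
    have hL' : ∀ a, L (φ a) = w (omegaD 𝒜 hf n a) := hL
    have hsm : ∀ (r : R') (q : Q), r • q = away ℬ hg 0 (mem_zero_nsmul ℬ (hB r)) • q := fun _ _ => rfl
    refine ⟨L.toAddMonoidHom, fun k m hm => (hL' m).trans (congrArg w (omegaD_of_deg 𝒜 hf hd hm)), ?_⟩
    intro l b hb k y hy
    show L (b • y) = away ℬ hg l hb • L y
    rcases id hy with rfl | ⟨i, hi, hyi⟩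
    · rw [smul_zero, map_zero, smul_zero]
    suffices key : ∀ z ∈ Submodule.span R' (φ '' {a | a ∈ 𝒜 i}), ∀ c ∈ Submodule.span R' (φ '' {a | a ∈ 𝒜 (l • d)}),
        ∀ hc : c ∈ ℬ (l • d), L (c • z) = away ℬ hg l hc • L z from
      key y (mem_span_image φ ι hB hbc hyi) b (mem_span_image φ ι hB hbc hb) hb
    intro z hz c hc
    have hc' : c ∈ ℬ (l • d) ∧ ∀ hm : c ∈ ℬ (l • d), L (c • z) = away ℬ hg l hm • L z := by
      induction hc using Submodule.span_induction with
      | mem c h =>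
        obtain ⟨a, ha, rfl⟩ := h
        refine ⟨φ.map_mem ha, fun hm => ?_⟩
        induction hz using Submodule.span_induction with
        | mem z h =>
          obtain ⟨m, hmi, rfl⟩ := h
          have hdeg : Deg 𝒜 ((k : ℤ) * d + n) m := (deg_of_mem hmi).congr hi
          rw [smul_eq_mul, ← map_mul, hL', hL', ← smul_eq_mul a m, omegaD_of_deg 𝒜 hf hd hdeg,
            omegaD_of_deg 𝒜 hf hd (deg_pow_smul 𝒜 hdeg l ha), ← away_smul_frac 𝒜 hf l ha k hdeg, hw]
        | zero => rw [smul_zero, map_zero, smul_zero]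
        | add x y _ _ hx hy => rw [smul_add, map_add, map_add, smul_add, hx, hy]
        | smul r x _ hx =>
          rw [smul_comm (φ a) r x, L.map_smul, L.map_smul, hx, hsm, hsm, smul_smul, smul_smul, mul_comm]
      | zero =>
        refine ⟨zero_mem _, fun hm => ?_⟩
        rw [zero_smul, map_zero, away_zero, zero_smul]
      | add x y _ _ hx hy =>
        refine ⟨add_mem hx.1 hy.1, fun hm => ?_⟩
        rw [add_smul, map_add, hx.2 hx.1, hy.2 hy.1, away_add ℬ hg l hx.1 hy.1, add_smul]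
      | smul r x _ hx =>
        refine ⟨smul_mem_deg ℬ hB hx.1 r, fun hm => ?_⟩
        rw [smul_assoc, map_smul, hx.2 hx.1, hsm, smul_smul]
        congr 1
        rw [← away_mul ℬ hg 0 l _ hx.1 (by
          rw [zero_add, ← Algebra.smul_def]; exact smul_mem_deg ℬ hB hx.1 r)]
        refine oval_ext ℬ fun p => ?_
        rw [val_away, val_away]
        congr 1
        · exact (Algebra.smul_def r x).symm
        · exact Subtype.ext (by rw [zero_add])
    exact fun h => hc'.2 h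

/-- Positive-degree homogeneous elements cover the target of a homomorphism. -/
theorem exists_mem_basicOpen_map (y : ProjectiveSpectrum ℬ) (hφ : ℬ₊ ≤ (𝒜₊).map φ) :
    ∃ (d : ℕ) (f : A), 0 < d ∧ f ∈ 𝒜 d ∧ φ f ∉ y.asHomogeneousIdeal := by
  classical
  by_contra! hc
  refine y.not_irrelevant_le (fun b hb => ?_)
  have h1 : (HomogeneousIdeal.map φ (𝒜₊)).toIdeal ≤ y.asHomogeneousIdeal.toIdeal := by
    show Ideal.map φ.toRingHom (𝒜₊).toIdeal ≤ _
    rw [Ideal.map_le_iff_le_comap]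
    intro a ha
    rw [← DirectSum.sum_support_decompose 𝒜 a]
    refine sum_mem fun i _ => ?_
    rcases Nat.eq_zero_or_pos i with rfl | hi
    · have h0 : (decompose 𝒜 a 0 : A) = 0 := ha
      rw [h0]
      exact zero_mem _
    · exact hc i _ hi (SetLike.coe_mem _)
  exact h1 (hφ hb)

include hA hB hι hbc in
/-- The adjunct of the comparison map of twisting sheaves of a base change is an isomorphism. -/
theorem isIso_adjunct_twist (n : ℤ) :
    IsIso (((Scheme.Modules.pullbackPushforwardAdjunction (Proj.map φ hφ)).homEquiv _ _).symm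
      (GrMod.comap φ hφ (semiSelf φ) (semiSelf_mem φ) n)) := by
  refine isIso_adjunct (Proj.map φ hφ) _ (GrModX.isQCoh_tilde 𝒜 𝒜 n)
    (GrModX.isQCoh_tilde ℬ ℬ n) (κ := {p : ℕ × A // 0 < p.1 ∧ p.2 ∈ 𝒜 p.1}) (fun p => Proj.basicOpen 𝒜 p.1.2)
    (fun p => Proj.basicOpen ℬ (φ p.1.2)) (fun p => Proj.isAffineOpen_basicOpen 𝒜 _ p.2.2 p.2.1)
    (fun p => Proj.isAffineOpen_basicOpen ℬ _ (φ.map_mem p.2.2) p.2.1)
    (fun p => basicOpen_le_preimage φ hφ) ?_
    (fun p => isBC_comap_of_baseRing φ hφ ι hA hB hι hbc p.2.2 p.2.1)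
  intro y
  obtain ⟨d, f, hd, hf, hy⟩ := exists_mem_basicOpen_map φ y hφ
  exact ⟨⟨(d, f), hd, hf⟩, hy⟩

end Map

end Groth.Agent.AdjunctBC16
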