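import Groth.Agent.QCoh.PullbackBC
import Groth.Agent.QCoh.SubCompare

/-!
# When is the adjunct of `M ⟶ h_* N` an isomorphism?

For quasi-coherent modules it suffices that, on an affine cover, the sections of `N` are the base change of the
sections of `M`.
-/

set_option autoImplicit false
set_option backward.isDefEq.respectTransparency false
set_option backward.isDefEq.respectTransparency.types false
set_option linter.style.haveILetI false

universe u

open CategoryTheory CategoryTheory.Limits AlgebraicGeometry TopologicalSpace Opposite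

noncomputable section

namespace Groth.Agent.AdjunctBC16

variable {X X' : Scheme.{u}}

/-- Isomorphy of maps of quasi-coherent modules is checked on an affine cover. -/
theorem isIso_of_cover {M N : X.Modules} (hM : Coh.IsQCoh M) (hN : Coh.IsQCoh N) (φ : M ⟶ N)
    {κ : Type*} (U : κ → X.Opens) (haff : ∀ i, IsAffineOpen (U i)) (hU : ∀ y : X, ∃ i, y ∈ U i)
    (h : ∀ i, Function.Bijective (φ.app (U i))) : IsIso φ := by
  haveI : Mono φ := Preadditive.mono_of_kernel_zero (QCoh.hom_eq_zero_of_cover (QCoh.isQCoh_kernel hM hN φ) hM _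
    U haff hU fun i x => (h i).1 (by
      rw [map_zero]
      exact congr(($(kernel.condition φ)).app (U i) x)))
  haveI : Epi φ := Preadditive.epi_of_cokernel_zero (QCoh.hom_eq_zero_of_cover hN (QCoh.isQCoh_cokernel hM hN φ) _
    U haff hU fun i y => by
      obtain ⟨x, rfl⟩ := (h i).2 y
      exact congr(($(cokernel.condition φ)).app (U i) x))
  exact isIso_of_mono_of_epi φ

/-- `e : Γ(M, V) → P` is a base change of the sections along `σ`: its universal property. -/
def IsBC {S S' : Type u} [CommRing S] [CommRing S'] (σ : S →+* S') {M P : Type u} [AddCommGroup M] [Module S M]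
    [AddCommGroup P] [Module S' P] (e : M →+ P) : Prop :=
  ∀ (Q : Type u) [AddCommGroup Q] [Module S' Q] (w : M →+ Q), (∀ (r : S) (x : M), w (r • x) = σ r • w x) →
    ∃! L : P →ₗ[S'] Q, ∀ x, L (e x) = w x

theorem IsBC.bijective_of_comp {S S' : Type u} [CommRing S] [CommRing S'] {σ : S →+* S'} {M P P' : Type u}
    [AddCommGroup M] [Module S M] [AddCommGroup P] [Module S' P] [AddCommGroup P'] [Module S' P']
    {e : M →+ P} {e' : M →+ P'} (he : IsBC σ e) (he' : IsBC σ e')
    (hs : ∀ (r : S) (x : M), e (r • x) = σ r • e x) (hs' : ∀ (r : S) (x : M), e' (r • x) = σ r • e' x)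
    (a : P →ₗ[S'] P') (ha : ∀ x, a (e x) = e' x) : Function.Bijective a := by
  obtain ⟨b, hb, -⟩ := he' P e hs
  obtain ⟨i₁, -, h₁⟩ := he P e hs
  obtain ⟨i₂, -, h₂⟩ := he' P' e' hs'
  have e₁ : b ∘ₗ a = LinearMap.id :=
    (h₁ _ fun x => by rw [LinearMap.comp_apply, ha, hb]).trans (h₁ LinearMap.id fun _ => rfl).symm
  have e₂ : a ∘ₗ b = LinearMap.id :=
    (h₂ _ fun x => by rw [LinearMap.comp_apply, hb, ha]).trans (h₂ LinearMap.id fun _ => rfl).symm
  exact Function.bijective_iff_has_inverse.2 ⟨b, LinearMap.congr_fun e₁, LinearMap.congr_fun e₂⟩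

variable (h : X' ⟶ X) {V : X.Opens} {W : X'.Opens}

/-- Sections of the inverse image on affines have the universal property of the base change. -/
theorem isBC_pullSec {M : X.Modules} (hM : Coh.IsQCoh M) (hV : IsAffineOpen V) (hW : IsAffineOpen W)
    (hle : W ≤ h ⁻¹ᵁ V) :
    IsBC (h.appLE V W hle).hom
      (AddMonoidHom.mk' (QCoh.pullSec h M hle) (QCoh.pullSec_add h M hle)) := by
  intro Q _ _ w hw
  letI : Algebra Γ(X, V) Γ(X', W) := (h.appLE V W hle).hom.toAlgebra
  letI : Module Γ(X, V) Γ((Scheme.Modules.pullback h).obj M, W) := Module.compHom _ (h.appLE V W hle).hom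
  haveI : IsScalarTower Γ(X, V) Γ(X', W) Γ((Scheme.Modules.pullback h).obj M, W) :=
    ⟨fun r s x => mul_smul ((h.appLE V W hle).hom r) s x⟩
  letI : Module Γ(X, V) Q := Module.compHom _ (h.appLE V W hle).hom
  haveI : IsScalarTower Γ(X, V) Γ(X', W) Q := ⟨fun r s x => mul_smul ((h.appLE V W hle).hom r) s x⟩
  let l : Γ(M, V) →ₗ[Γ(X, V)] Γ((Scheme.Modules.pullback h).obj M, W) :=
    { toFun := QCoh.pullSec h M hle
      map_add' := QCoh.pullSec_add h M hle
      map_smul' := QCoh.pullSec_smul h M hle }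
  have hl := QCoh.isBaseChange_pullback hV h hW hM hle (fun _ => rfl) l fun _ => rfl
  let g : Γ(M, V) →ₗ[Γ(X, V)] Q := { toFun := w, map_add' := w.map_add, map_smul' := hw }
  exact ⟨hl.lift g, hl.lift_eq g, fun L hL => hl.algHom_ext _ _ fun x => (hL x).trans (hl.lift_eq g x).symm⟩

variable {M : X.Modules} {N : X'.Modules} (φ : M ⟶ (Scheme.Modules.pushforward h).obj N)

/-- The map on sections over `W` induced by `φ`. -/
def secMap (hle : W ≤ h ⁻¹ᵁ V) : Γ(M, V) →+ Γ(N, W) :=
  (N.presheaf.map (homOfLE hle).op).hom.comp (φ.app V).hom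

theorem secMap_apply (hle : W ≤ h ⁻¹ᵁ V) (x : Γ(M, V)) :
    secMap h φ hle x = N.presheaf.map (homOfLE hle).op (φ.app V x) := rfl

theorem secMap_smul (hle : W ≤ h ⁻¹ᵁ V) (r : Γ(X, V)) (x : Γ(M, V)) :
    secMap h φ hle (r • x) = (h.appLE V W hle).hom r • secMap h φ hle x := by
  rw [secMap_apply, secMap_apply, Scheme.Modules.Hom.app_smul]
  exact QCoh.map_smul' (M := N) (homOfLE hle) _ _

theorem adjunct_pullSec (hle : W ≤ h ⁻¹ᵁ V) (x : Γ(M, V)) :
    ((((Scheme.Modules.pullbackPushforwardAdjunction h).homEquiv _ _).symm φ).app W)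
      (QCoh.pullSec h M hle x) = secMap h φ hle x := by
  have e : (Scheme.Modules.pullbackPushforwardAdjunction h).unit.app M ≫
      (Scheme.Modules.pushforward h).map
        (((Scheme.Modules.pullbackPushforwardAdjunction h).homEquiv _ _).symm φ) = φ :=
    ((Scheme.Modules.pullbackPushforwardAdjunction h).homEquiv_unit M N _).symm.trans (Equiv.apply_symm_apply _ _)
  rw [secMap_apply]
  refine (QCoh.map_app_comm _ _ _).trans (congrArg (N.presheaf.map (homOfLE hle).op) ?_)
  exact congrArg (fun ψ : M ⟶ (Scheme.Modules.pushforward h).obj N => ψ.app V x) e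

/-- The adjunct of `φ` is an isomorphism when, on an affine cover, `φ` makes the sections of `N` the base change of
those of `M`. -/
theorem isIso_adjunct {κ : Type*} (hM : Coh.IsQCoh M) (hN : Coh.IsQCoh N) (V : κ → X.Opens) (W : κ → X'.Opens)
    (hV : ∀ i, IsAffineOpen (V i)) (hW : ∀ i, IsAffineOpen (W i)) (hle : ∀ i, W i ≤ h ⁻¹ᵁ V i)
    (hcov : ∀ y : X', ∃ i, y ∈ W i)
    (hbc : ∀ i, IsBC (h.appLE (V i) (W i) (hle i)).hom (secMap h φ (hle i))) :
    IsIso (((Scheme.Modules.pullbackPushforwardAdjunction h).homEquiv _ _).symm φ) := by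
  refine isIso_of_cover (QCoh.isQCoh_pullback h hM) hN _ W hW hcov fun i => ?_
  let α := ((Scheme.Modules.pullbackPushforwardAdjunction h).homEquiv _ _).symm φ
  exact (isBC_pullSec h hM (hV i) (hW i) (hle i)).bijective_of_comp (hbc i)
    (fun r x => QCoh.pullSec_smul h M (hle i) r x) (secMap_smul h φ (hle i))
    { toFun := α.app (W i)
      map_add' := map_add _
      map_smul' := fun r x => Scheme.Modules.Hom.app_smul α r x }
    (adjunct_pullSec h φ (hle i))

end Groth.Agent.AdjunctBC16
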