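import Groth.Agent.AdjunctBC16.Frac

/-!
# Dehomogenization in degree one, and base change of `M(n)~` over `D(f)`, `f` of degree one
-/

set_option autoImplicit false
set_option backward.isDefEq.respectTransparency false
set_option backward.isDefEq.respectTransparency.types false
set_option linter.style.haveILetI false

universe u

open CategoryTheory AlgebraicGeometry TopologicalSpace DirectSum Opposite
open HomogeneousLocalization (Away)
open scoped HomogeneousIdeal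

noncomputable section

namespace Groth.Agent.AdjunctBC16

open Groth.Agent Groth.Agent.GrModX

section One

variable {A σ : Type u} [CommRing A] [SetLike σ A] [AddSubgroupClass σ A] (𝒜 : ℕ → σ) [GradedRing 𝒜]
variable {M τ : Type u} [AddCommGroup M] [Module A M] [SetLike τ M] [AddSubgroupClass τ M] (ℳ : ℕ → τ)
  [SetLike.GradedSMul 𝒜 ℳ]
variable {d : ℕ} {f : A} (hf : f ∈ 𝒜 d) (n : ℤ)

theorem away_add (l : ℕ) {a a' : A} (ha : a ∈ 𝒜 (l • d)) (ha' : a' ∈ 𝒜 (l • d)) :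
    away 𝒜 hf l (add_mem ha ha') = away 𝒜 hf l ha + away 𝒜 hf l ha' := by
  refine oval_ext 𝒜 fun y => ?_
  show _ = ((oval 𝒜 (away 𝒜 hf l ha) y) + (oval 𝒜 (away 𝒜 hf l ha') y)).val
  rw [HomogeneousLocalization.val_add, val_away, val_away, val_away, Localization.add_mk_self]

theorem away_zero (l : ℕ) : away 𝒜 hf l (zero_mem (𝒜 (l • d))) = 0 := by
  refine oval_ext 𝒜 fun y => ?_
  show _ = (0 : GrTwist.A0 𝒜 y.1).val
  rw [val_away, HomogeneousLocalization.val_zero, Localization.mk_zero]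

theorem away_mul (l l' : ℕ) {a a' : A} (ha : a ∈ 𝒜 (l • d)) (ha' : a' ∈ 𝒜 (l' • d))
    (h : a * a' ∈ 𝒜 ((l + l') • d)) :
    away 𝒜 hf (l + l') h = away 𝒜 hf l ha * away 𝒜 hf l' ha' := by
  refine oval_ext 𝒜 fun y => ?_
  show _ = ((oval 𝒜 (away 𝒜 hf l ha) y) * (oval 𝒜 (away 𝒜 hf l' ha') y)).val
  rw [HomogeneousLocalization.val_mul, val_away, val_away, val_away, Localization.mk_mul]
  congr 1
  exact Subtype.ext (pow_add f l l')

variable {ℳ n} in
theorem frac_eq {k k' : ℕ} {m m' : M} (hm : Deg ℳ ((k : ℤ) * d + n) m) (hm' : Deg ℳ ((k' : ℤ) * d + n) m')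
    (h : f ^ k' • m = f ^ k • m') : frac 𝒜 ℳ hf n k hm = frac 𝒜 ℳ hf n k' hm' := by
  refine ext_val 𝒜 ℳ fun y => ?_
  rw [val_frac, val_frac, LocalizedModule.mk_eq]
  exact ⟨1, by simp only [one_smul, Submonoid.smul_def]; exact h⟩

end One

section Dehom

variable {A σ : Type u} [CommRing A] [SetLike σ A] [AddSubgroupClass σ A] (𝒜 : ℕ → σ) [GradedRing 𝒜]
variable {M τ : Type u} [AddCommGroup M] [Module A M] [SetLike τ M] [AddSubgroupClass τ M] (ℳ : ℕ → τ)
  [SetLike.GradedSMul 𝒜 ℳ]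
variable {f : A} (hf : f ∈ 𝒜 1) (n : ℤ)

theorem mem_nsmul_one {i : ℕ} {a : A} (ha : a ∈ 𝒜 i) : a ∈ 𝒜 (i • 1) := by
  rw [smul_eq_mul, mul_one]; exact ha

/-- The component in degree `i` of dehomogenization. -/
def dehomHom (i : ℕ) : 𝒜 i →+ Γ(Proj 𝒜, Proj.basicOpen 𝒜 f) :=
  AddMonoidHom.mk' (fun a => away 𝒜 hf i (mem_nsmul_one 𝒜 a.2)) fun a a' => away_add 𝒜 hf i _ _

/-- Dehomogenization at a degree one element. -/
def dehom : A →+* Γ(Proj 𝒜, Proj.basicOpen 𝒜 f) :=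
  (DirectSum.toSemiring (A := fun i => 𝒜 i) (dehomHom 𝒜 hf)
    (by
      show away 𝒜 hf 0 (mem_nsmul_one 𝒜 SetLike.GradedOne.one_mem) = 1
      rw [← away_pow_eq_one 𝒜 hf 0]
      congr 1
      exact (pow_zero f).symm)
    (fun {i j} a a' => away_mul 𝒜 hf i j _ _ _)).comp
    (DirectSum.decomposeRingEquiv 𝒜).toRingHom

theorem dehom_of_mem {i : ℕ} {a : A} (ha : a ∈ 𝒜 i) (ha' : a ∈ 𝒜 (i • 1)) :
    dehom 𝒜 hf a = away 𝒜 hf i ha' := by
  rw [dehom, RingHom.comp_apply]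
  refine Eq.trans (congrArg _ (show _ = DirectSum.of (fun i => 𝒜 i) i ⟨a, ha⟩ from decompose_of_mem 𝒜 ha)) ?_
  rw [DirectSum.toSemiring_of]
  rfl

variable {ℳ n}

include hf in
theorem omega_deg {i : ℕ} {m : M} (hm : m ∈ ℳ i) :
    Deg ℳ ((((i : ℤ) - n).toNat : ℤ) * (1 : ℕ) + n) (f ^ (n - (i : ℤ)).toNat • m) :=
  ((deg_of_mem hm).smul 𝒜 (pow_mem_deg 𝒜 hf _)).congr (by push_cast; omega)

variable (ℳ n) in
/-- The component in degree `i` of dehomogenization of a module. -/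
def omegaHom (i : ℕ) : ℳ i →+ Γ(GrMod.tilde 𝒜 ℳ n, Proj.basicOpen 𝒜 f) :=
  AddMonoidHom.mk' (fun m => frac 𝒜 ℳ hf n ((i : ℤ) - n).toNat (omega_deg 𝒜 hf m.2)) fun m m' => by
    rw [← frac_add 𝒜 hf _ (omega_deg 𝒜 hf m.2) (omega_deg 𝒜 hf m'.2)]
    exact frac_congr 𝒜 hf _ (smul_add _ _ _) _ _

variable [DirectSum.Decomposition ℳ]

variable (ℳ n) in
/-- Dehomogenization of a module at a degree one element. -/
def omega : M →+ Γ(GrMod.tilde 𝒜 ℳ n, Proj.basicOpen 𝒜 f) :=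
  (DirectSum.toAddMonoid (omegaHom 𝒜 ℳ hf n)).comp (decomposeAddEquiv ℳ).toAddMonoidHom

theorem omega_of_mem {i : ℕ} {m : M} (hm : m ∈ ℳ i) :
    omega 𝒜 ℳ hf n m = frac 𝒜 ℳ hf n ((i : ℤ) - n).toNat (omega_deg 𝒜 hf hm) := by
  show DirectSum.toAddMonoid _ (decompose ℳ m) = _
  rw [decompose_of_mem ℳ hm, DirectSum.toAddMonoid_of]
  rfl

theorem omega_of_deg {k : ℕ} {m : M} (hm : Deg ℳ ((k : ℤ) * (1 : ℕ) + n) m) :
    omega 𝒜 ℳ hf n m = frac 𝒜 ℳ hf n k hm := by
  rcases id hm with rfl | ⟨i, hi, hmi⟩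
  · rw [map_zero, frac_zero]
  · rw [omega_of_mem 𝒜 hf hmi]
    refine frac_eq 𝒜 hf _ _ ?_
    rw [smul_smul, ← pow_add]
    congr 2
    push_cast at hi
    omega

theorem omega_smul (a : A) (m : M) : omega 𝒜 ℳ hf n (a • m) = dehom 𝒜 hf a • omega 𝒜 ℳ hf n m := by
  classical
  induction m using Decomposition.inductionOn ℳ with
  | zero => rw [smul_zero, map_zero, smul_zero]
  | add m m' h h' => rw [smul_add, map_add, map_add, smul_add, h, h']
  | @homogeneous i m =>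
    induction a using Decomposition.inductionOn 𝒜 with
    | zero => rw [zero_smul, map_zero, map_zero, zero_smul]
    | add a a' h h' => rw [add_smul, map_add, map_add, add_smul, h, h']
    | @homogeneous j a =>
      rw [omega_of_mem 𝒜 hf (SetLike.GradedSMul.smul_mem a.2 m.2), omega_of_mem 𝒜 hf m.2,
        dehom_of_mem 𝒜 hf a.2 (mem_nsmul_one 𝒜 a.2), away_smul_frac]
      refine frac_eq 𝒜 hf _ _ ?_
      simp only [vadd_eq_add, smul_smul]
      congr 1
      rw [← mul_assoc, ← pow_add, mul_comm (a : A) (f ^ (n - (i : ℤ)).toNat), ← mul_assoc, ← pow_add]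
      congr 2
      omega

end Dehom

section Map

variable {A σ : Type u} [CommRing A] [SetLike σ A] [AddSubgroupClass σ A] {𝒜 : ℕ → σ} [GradedRing 𝒜]
  {B σ' : Type u} [CommRing B] [SetLike σ' B] [AddSubgroupClass σ' B] {ℬ : ℕ → σ'} [GradedRing ℬ]
  (ψ : 𝒜 →+*ᵍ ℬ) (hψ : ℬ₊ ≤ (𝒜₊).map ψ)
  {M τ : Type u} [AddCommGroup M] [Module A M] [SetLike τ M] [AddSubgroupClass τ M] {ℳ : ℕ → τ}
  [SetLike.GradedSMul 𝒜 ℳ] [DirectSum.Decomposition ℳ]
  {N τ' : Type u} [AddCommGroup N] [Module B N] [SetLike τ' N] [AddSubgroupClass τ' N] {𝒩 : ℕ → τ'}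
  [SetLike.GradedSMul ℬ 𝒩] [DirectSum.Decomposition 𝒩]
  (v : M →ₛₗ[ψ.toRingHom] N) (hv : ∀ (i : ℕ) (m : M), m ∈ ℳ i → v m ∈ 𝒩 i)
  {f : A} (hf : f ∈ 𝒜 1) {n : ℤ}

theorem appLE_dehom (a : A) :
    ((Proj.map ψ hψ).appLE (Proj.basicOpen 𝒜 f) (Proj.basicOpen ℬ (ψ f)) (basicOpen_le_preimage ψ hψ)).hom
        (dehom 𝒜 hf a) = dehom ℬ (psi_mem ψ hf) (ψ a) := by
  classical
  induction a using Decomposition.inductionOn 𝒜 with
  | zero => simp only [map_zero]
  | add a a' h h' => simp only [map_add, h, h']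
  | @homogeneous j a =>
    rw [dehom_of_mem 𝒜 hf a.2 (mem_nsmul_one 𝒜 a.2), appLE_away]
    exact (dehom_of_mem ℬ (psi_mem ψ hf) (ψ.map_mem a.2) (mem_nsmul_one ℬ (ψ.map_mem a.2))).symm

theorem secMap_omega (m : M) :
    secMap (Proj.map ψ hψ) (GrMod.comap ψ hψ v hv n) (V := Proj.basicOpen 𝒜 f)
        (basicOpen_le_preimage ψ hψ) (omega 𝒜 ℳ hf n m) = omega ℬ 𝒩 (psi_mem ψ hf) n (v m) := by
  classical
  induction m using Decomposition.inductionOn ℳ with
  | zero => simp only [map_zero]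
  | add m m' h h' => simp only [map_add, h, h']
  | @homogeneous i m =>
    rw [omega_of_mem 𝒜 hf m.2, secMap_frac, omega_of_mem ℬ (psi_mem ψ hf) (hv i _ m.2)]
    refine frac_congr ℬ _ _ ?_ _ _
    rw [map_smulₛₗ]
    congr 1
    exact map_pow ψ f _

include hf in
/-- On `D(f)`, `deg f = 1`, a base change of graded modules gives a base change of sections of `M(n)~`. -/
theorem isBC_comap_of_baseChange
    (hbc : ∀ (Q : Type u) [AddCommGroup Q] [Module B Q] (w : M →ₛₗ[ψ.toRingHom] Q),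
      ∃! g : N →ₗ[B] Q, ∀ m : M, g (v m) = w m) :
    IsBC ((Proj.map ψ hψ).appLE (Proj.basicOpen 𝒜 f) (Proj.basicOpen ℬ (ψ f)) (basicOpen_le_preimage ψ hψ)).hom
      (secMap (Proj.map ψ hψ) (GrMod.comap ψ hψ v hv n) (V := Proj.basicOpen 𝒜 f)
        (basicOpen_le_preimage ψ hψ)) := by
  have htop : Submodule.span B (Set.range v) = ⊤ := by
    let S := Submodule.span B (Set.range v)
    obtain ⟨g, -, hu⟩ := hbc (N ⧸ S) 0
    have h1 : S.mkQ = g := hu _ fun m => (Submodule.Quotient.mk_eq_zero S).2 (Submodule.subset_span ⟨m, rfl⟩)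
    have h2 : (0 : N →ₗ[B] N ⧸ S) = g := hu _ fun _ => rfl
    show S = ⊤
    rw [← Submodule.ker_mkQ S, h1, ← h2, LinearMap.ker_zero]
  refine isBC_comap ψ hψ v hv hf Nat.one_pos ?_ ?_
  · intro k y hy
    rw [← omega_of_deg ℬ (psi_mem ψ hf) hy]
    have hy' : y ∈ Submodule.span B (Set.range v) := htop ▸ Submodule.mem_top
    clear hy
    induction hy' using Submodule.span_induction with
    | mem y h =>
      obtain ⟨m, rfl⟩ := h
      rw [← secMap_omega ψ hψ v hv hf m]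
      exact Submodule.subset_span ⟨_, rfl⟩
    | zero => rw [map_zero]; exact zero_mem _
    | add y y' _ _ h h' => rw [map_add]; exact add_mem h h'
    | smul b y _ h => rw [omega_smul]; exact Submodule.smul_mem _ _ h
  · intro Q _ _ w hw
    letI : Module B Q := Module.compHom Q (dehom ℬ (psi_mem ψ hf))
    have hw' : ∀ (a : A) x, w (dehom 𝒜 hf a • x) = dehom ℬ (psi_mem ψ hf) (ψ a) • w x := by
      classical
      intro a x
      induction a using Decomposition.inductionOn 𝒜 with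
      | zero => simp only [map_zero, zero_smul]
      | add a a' h h' => simp only [map_add, add_smul, h, h']
      | @homogeneous j a =>
        rw [dehom_of_mem 𝒜 hf a.2 (mem_nsmul_one 𝒜 a.2), hw]
        exact congrArg (· • w x)
          (dehom_of_mem ℬ (psi_mem ψ hf) (ψ.map_mem a.2) (mem_nsmul_one ℬ (ψ.map_mem a.2))).symm
    let w' : M →ₛₗ[ψ.toRingHom] Q :=
      { toFun := fun m => w (omega 𝒜 ℳ hf n m)
        map_add' := fun m m' => by rw [map_add, map_add]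
        map_smul' := fun a m => by
          rw [omega_smul, hw']
          rfl }
    obtain ⟨g, hg, -⟩ := hbc Q w'
    refine ⟨g.toAddMonoidHom, fun k m hm => (hg m).trans (congrArg w (omega_of_deg 𝒜 hf hm)), ?_⟩
    intro l b hb k y _
    refine (map_smul g b y).trans ?_
    show dehom ℬ (psi_mem ψ hf) b • g y = _
    rw [dehom_of_mem ℬ (psi_mem ψ hf) (by rwa [smul_eq_mul, mul_one] at hb) hb]
    rfl

end Map

end Groth.Agent.AdjunctBC16
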