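import Groth.Prelude.Def_RelProj3
import Groth.Agent.GrModX.QCohTilde
import Groth.Agent.AdjunctBC16.Crit

/-!
# Fractions on standard opens, and a base change criterion in terms of them
-/

set_option autoImplicit false
set_option backward.isDefEq.respectTransparency false
set_option backward.isDefEq.respectTransparency.types false
set_option linter.style.haveILetI false

universe u

open CategoryTheory AlgebraicGeometry TopologicalSpace DirectSum Opposite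
open HomogeneousLocalization (Away)
open scoped HomogeneousIdeal

noncomputable section

namespace Groth.Agent.AdjunctBC16

open Groth.Agent Groth.Agent.GrModX

section One

variable {A σ : Type u} [CommRing A] [SetLike σ A] [AddSubgroupClass σ A] (𝒜 : ℕ → σ) [GradedRing 𝒜]
variable {M τ : Type u} [AddCommGroup M] [Module A M] [SetLike τ M] [AddSubgroupClass τ M] (ℳ : ℕ → τ)
  [SetLike.GradedSMul 𝒜 ℳ]
variable {d : ℕ} {f : A} (hf : f ∈ 𝒜 d) (n : ℤ)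

/-- The function `a / f ^ l` on `D(f)`. -/
def away (l : ℕ) {a : A} (ha : a ∈ 𝒜 (l • d)) : Γ(Proj 𝒜, Proj.basicOpen 𝒜 f) :=
  Proj.awayToSection 𝒜 f (Away.mk 𝒜 hf l a ha)

theorem val_away (l : ℕ) {a : A} (ha : a ∈ 𝒜 (l • d)) (y : Proj.basicOpen 𝒜 f) :
    (oval 𝒜 (away 𝒜 hf l ha) y).val = Localization.mk a ⟨f ^ l, pow_notMem y.1.isPrime y.2 l⟩ :=
  oval_awayToSection 𝒜 hf l ha y

theorem oval_ext {U : (Proj 𝒜).Opens} {c c' : Γ(Proj 𝒜, U)}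
    (h : ∀ y : U, (oval 𝒜 c y).val = (oval 𝒜 c' y).val) : c = c' :=
  Subtype.ext (funext fun y => HomogeneousLocalization.val_injective _ (h y))

theorem exists_eq_away (hd : 0 < d) (c : Γ(Proj 𝒜, Proj.basicOpen 𝒜 f)) :
    ∃ (l : ℕ) (a : A) (ha : a ∈ 𝒜 (l • d)), c = away 𝒜 hf l ha := by
  obtain ⟨x, rfl⟩ := (Proj.basicOpenIsoAway 𝒜 f hf hd).commRingCatIsoToRingEquiv.surjective c
  obtain ⟨l, a, ha, rfl⟩ := HomogeneousLocalization.Away.mk_surjective 𝒜 hf x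
  exact ⟨l, a, ha, rfl⟩

theorem away_pow_eq_one (l : ℕ) : away 𝒜 hf l (SetLike.pow_mem_graded l hf) = 1 := by
  refine oval_ext 𝒜 fun y => ?_
  rw [val_away]
  show _ = (1 : GrTwist.A0 𝒜 y.1).val
  rw [HomogeneousLocalization.val_one]
  exact Localization.mk_self ⟨f ^ l, pow_notMem y.1.isPrime y.2 l⟩

/-- The section `m / f ^ k` on `D(f)`. -/
def frac (k : ℕ) {m : M} (hm : Deg ℳ ((k : ℤ) * d + n) m) :
    Γ(GrMod.tilde 𝒜 ℳ n, Proj.basicOpen 𝒜 f) :=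
  fracSect 𝒜 ℳ n _ (pow_mem_deg 𝒜 hf k) (fun y => pow_notMem y.1.isPrime y.2 k)
    (hm.congr (by push_cast; ring))

theorem val_frac (k : ℕ) {m : M} (hm : Deg ℳ ((k : ℤ) * d + n) m) (y : Proj.basicOpen 𝒜 f) :
    GrMod.val (frac 𝒜 ℳ hf n k hm) y = LocalizedModule.mk m ⟨f ^ k, pow_notMem y.1.isPrime y.2 k⟩ := rfl

variable {ℳ n}

theorem deg_pow_smul {k : ℕ} {m : M} (hm : Deg ℳ ((k : ℤ) * d + n) m) (l : ℕ) {a : A} (ha : a ∈ 𝒜 (l • d)) :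
    Deg ℳ (((l + k : ℕ) : ℤ) * d + n) (a • m) :=
  (hm.smul 𝒜 ha).congr (by push_cast [smul_eq_mul]; ring)

theorem away_smul_frac (l : ℕ) {a : A} (ha : a ∈ 𝒜 (l • d)) (k : ℕ) {m : M}
    (hm : Deg ℳ ((k : ℤ) * d + n) m) :
    away 𝒜 hf l ha • frac 𝒜 ℳ hf n k hm = frac 𝒜 ℳ hf n (l + k) (deg_pow_smul 𝒜 hm l ha) := by
  refine ext_val 𝒜 ℳ fun y => ?_
  rw [val_smul, val_away, val_frac, val_frac, LocalizedModule.mk_smul_mk]
  congr 1
  exact Subtype.ext (pow_add f l k).symm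

theorem frac_add (k : ℕ) {m m' : M} (hm : Deg ℳ ((k : ℤ) * d + n) m) (hm' : Deg ℳ ((k : ℤ) * d + n) m') :
    frac 𝒜 ℳ hf n k (hm.add hm') = frac 𝒜 ℳ hf n k hm + frac 𝒜 ℳ hf n k hm' := by
  refine ext_val 𝒜 ℳ fun y => ?_
  show _ = GrMod.val (frac 𝒜 ℳ hf n k hm) y + GrMod.val (frac 𝒜 ℳ hf n k hm') y
  rw [val_frac, val_frac, val_frac, LocalizedModule.mk_add_mk, LocalizedModule.mk_eq]
  refine ⟨1, ?_⟩
  simp only [one_smul, Submonoid.smul_def, Submonoid.coe_mul, smul_add, smul_smul]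

theorem frac_zero (k : ℕ) : frac 𝒜 ℳ hf n k (Deg.zero _ : Deg ℳ _ (0 : M)) = 0 := by
  refine ext_val 𝒜 ℳ fun y => ?_
  rw [val_frac, LocalizedModule.zero_mk]
  rfl

theorem frac_congr (k : ℕ) {m m' : M} (h : m = m') (hm : Deg ℳ ((k : ℤ) * d + n) m)
    (hm' : Deg ℳ ((k : ℤ) * d + n) m') : frac 𝒜 ℳ hf n k hm = frac 𝒜 ℳ hf n k hm' := by
  subst h; rfl

variable [DirectSum.Decomposition ℳ]

theorem exists_eq_frac (hd : 0 < d) (s : Γ(GrMod.tilde 𝒜 ℳ n, Proj.basicOpen 𝒜 f)) :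
    ∃ (k : ℕ) (m : M) (hm : Deg ℳ ((k : ℤ) * d + n) m), s = frac 𝒜 ℳ hf n k hm := by
  obtain ⟨k, m, hm, h⟩ := exists_frac 𝒜 ℳ hd hf n s
  exact ⟨k, m, hm, ext_val 𝒜 ℳ fun y => (h y).trans (val_frac 𝒜 ℳ hf n k hm y).symm⟩

theorem exists_pow_smul_eq_of_frac_eq (hd : 0 < d) {k k' : ℕ} {m m' : M}
    (hm : Deg ℳ ((k : ℤ) * d + n) m) (hm' : Deg ℳ ((k' : ℤ) * d + n) m')
    (h : frac 𝒜 ℳ hf n k hm = frac 𝒜 ℳ hf n k' hm') :
    ∃ j : ℕ, f ^ (j + k') • m = f ^ (j + k) • m' := by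
  have hz : Deg ℳ (((k' * d + k * d : ℕ) : ℤ) + n) (f ^ k' • m - f ^ k • m') :=
    ((hm.smul 𝒜 (pow_mem_deg 𝒜 hf k')).congr (by push_cast; ring)).sub
      ((hm'.smul 𝒜 (pow_mem_deg 𝒜 hf k)).congr (by push_cast; ring))
  obtain ⟨j, hj⟩ := GrModX.exists_pow_smul_eq_zero 𝒜 hd hf hz fun y hy => by
    have h1 := congrArg (fun s => GrMod.val s (⟨y, hy⟩ : Proj.basicOpen 𝒜 f)) h
    simp only [val_frac, LocalizedModule.mk_eq, Submonoid.smul_def] at h1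
    obtain ⟨u, hu⟩ := h1
    exact ⟨u.1, u.2, by rw [smul_sub, sub_eq_zero]; exact hu⟩
  rw [smul_sub, sub_eq_zero, smul_smul, smul_smul, ← pow_add, ← pow_add] at hj
  exact ⟨j, hj⟩

end One

section Map

variable {A σ : Type u} [CommRing A] [SetLike σ A] [AddSubgroupClass σ A] {𝒜 : ℕ → σ} [GradedRing 𝒜]
  {B σ' : Type u} [CommRing B] [SetLike σ' B] [AddSubgroupClass σ' B] {ℬ : ℕ → σ'} [GradedRing ℬ]
  (ψ : 𝒜 →+*ᵍ ℬ) (hψ : ℬ₊ ≤ (𝒜₊).map ψ)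
  {M τ : Type u} [AddCommGroup M] [Module A M] [SetLike τ M] [AddSubgroupClass τ M] {ℳ : ℕ → τ}
  [SetLike.GradedSMul 𝒜 ℳ]
  {N τ' : Type u} [AddCommGroup N] [Module B N] [SetLike τ' N] [AddSubgroupClass τ' N] {𝒩 : ℕ → τ'}
  [SetLike.GradedSMul ℬ 𝒩]
  (v : M →ₛₗ[ψ.toRingHom] N) (hv : ∀ (i : ℕ) (m : M), m ∈ ℳ i → v m ∈ 𝒩 i)
variable {d : ℕ} {f : A} (hf : f ∈ 𝒜 d) {n : ℤ}

omit [AddSubgroupClass τ M] [SetLike.GradedSMul 𝒜 ℳ] [AddSubgroupClass τ' N] [SetLike.GradedSMul ℬ 𝒩] [AddSubgroupClass σ A] [GradedRing 𝒜] [AddSubgroupClass σ' B] [GradedRing ℬ] in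
include hv in
theorem deg_v {z : ℤ} {m : M} (hm : Deg ℳ z m) : Deg 𝒩 z (v m) :=
  hm.elim (fun h => Or.inl (by rw [h, map_zero])) fun ⟨i, hi, hmi⟩ => Or.inr ⟨i, hi, hv i m hmi⟩

omit [AddSubgroupClass σ A] [GradedRing 𝒜] [AddSubgroupClass σ' B] [GradedRing ℬ] in
include hf in
/-- The image of a homogeneous element. -/
theorem psi_mem : ψ f ∈ ℬ d := ψ.map_mem hf

theorem basicOpen_le_preimage :
    Proj.basicOpen ℬ (ψ f) ≤ Proj.map ψ hψ ⁻¹ᵁ Proj.basicOpen 𝒜 f := fun _ hy => hy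

theorem appLE_away (l : ℕ) {a : A} (ha : a ∈ 𝒜 (l • d)) :
    ((Proj.map ψ hψ).appLE (Proj.basicOpen 𝒜 f) (Proj.basicOpen ℬ (ψ f)) (basicOpen_le_preimage ψ hψ)).hom
        (away 𝒜 hf l ha) = away ℬ (psi_mem ψ hf) l (ψ.map_mem ha) := by
  refine oval_ext ℬ fun y => ?_
  rw [val_away]
  show ((Proj.comapStructureSheaf ψ hψ _ (Proj.map ψ hψ ⁻¹ᵁ Proj.basicOpen 𝒜 f) Set.Subset.rfl
    (away 𝒜 hf l ha)).1 ⟨y.1, basicOpen_le_preimage ψ hψ y.2⟩).val = _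
  rw [GrTwist.comapStructureSheaf_apply, HomogeneousLocalization.val_localRingHom]
  refine (congrArg _ (val_away 𝒜 hf l ha _)).trans ?_
  rw [Localization.mk_eq_mk', Localization.mk_eq_mk']
  refine (Localization.localRingHom_mk' _ _ _ _ _ _).trans ?_
  congr 1
  exact Subtype.ext (map_pow ψ f l)

theorem secMap_frac (k : ℕ) {m : M} (hm : Deg ℳ ((k : ℤ) * d + n) m) :
    secMap (Proj.map ψ hψ) (GrMod.comap ψ hψ v hv n) (V := Proj.basicOpen 𝒜 f)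
        (basicOpen_le_preimage ψ hψ) (frac 𝒜 ℳ hf n k hm) =
      frac ℬ 𝒩 (psi_mem ψ hf) n k (deg_v ψ v hv hm) := by
  refine ext_val ℬ 𝒩 fun y => ?_
  refine (GrMod.comap_app_val ψ hψ v hv n _ _ ⟨y.1, basicOpen_le_preimage ψ hψ y.2⟩).trans ?_
  rw [val_frac, val_frac]
  refine (GrMod.locModMap_mk ψ hψ v _ _ _).trans ?_
  congr 1
  exact Subtype.ext (map_pow ψ f k)

variable [DirectSum.Decomposition ℳ] [DirectSum.Decomposition 𝒩]

/-- On `D(f)` the sections of `N(n)~` are a base change of those of `M(n)~` as soon as the images span and every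
compatible family extends to an additive map on `N`. -/
theorem isBC_comap (hd : 0 < d)
    (hspan : ∀ (k : ℕ) (y : N) (hy : Deg 𝒩 ((k : ℤ) * d + n) y),
      frac ℬ 𝒩 (psi_mem ψ hf) n k hy ∈ Submodule.span Γ(Proj ℬ, Proj.basicOpen ℬ (ψ f))
        (Set.range (secMap (Proj.map ψ hψ) (GrMod.comap ψ hψ v hv n) (V := Proj.basicOpen 𝒜 f)
          (basicOpen_le_preimage ψ hψ))))
    (hext : ∀ (Q : Type u) [AddCommGroup Q] [Module Γ(Proj ℬ, Proj.basicOpen ℬ (ψ f)) Q]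
      (w : Γ(GrMod.tilde 𝒜 ℳ n, Proj.basicOpen 𝒜 f) →+ Q),
      (∀ (l : ℕ) (a : A) (ha : a ∈ 𝒜 (l • d)) x,
        w (away 𝒜 hf l ha • x) = away ℬ (psi_mem ψ hf) l (ψ.map_mem ha) • w x) →
      ∃ G : N →+ Q,
        (∀ (k : ℕ) (m : M) (hm : Deg ℳ ((k : ℤ) * d + n) m), G (v m) = w (frac 𝒜 ℳ hf n k hm)) ∧
        ∀ (l : ℕ) (b : B) (hb : b ∈ ℬ (l • d)) (k : ℕ) (y : N), Deg 𝒩 ((k : ℤ) * d + n) y →
          G (b • y) = away ℬ (psi_mem ψ hf) l hb • G y) :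
    IsBC ((Proj.map ψ hψ).appLE (Proj.basicOpen 𝒜 f) (Proj.basicOpen ℬ (ψ f)) (basicOpen_le_preimage ψ hψ)).hom
      (secMap (Proj.map ψ hψ) (GrMod.comap ψ hψ v hv n) (V := Proj.basicOpen 𝒜 f)
        (basicOpen_le_preimage ψ hψ)) := by
  have hg := psi_mem ψ hf
  intro Q _ _ w hw
  obtain ⟨G, hG₁, hG₂⟩ := hext Q w fun l a ha x =>
    (hw _ x).trans (congrArg (· • w x) (appLE_away ψ hψ hf l ha))
  choose k y hy hs using fun s : Γ(GrMod.tilde ℬ 𝒩 n, Proj.basicOpen ℬ (ψ f)) =>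
    exists_eq_frac ℬ hg hd (ℳ := 𝒩) (n := n) s
  have hpow : ∀ (j k₁ : ℕ) (y₁ : N), Deg 𝒩 ((k₁ : ℤ) * d + n) y₁ → G (ψ f ^ j • y₁) = G y₁ := fun j k₁ y₁ hy₁ => by
    rw [hG₂ j _ (SetLike.pow_mem_graded j hg) k₁ y₁ hy₁, away_pow_eq_one, one_smul]
  have hwd : ∀ (k₁ : ℕ) (y₁ : N) (hy₁ : Deg 𝒩 ((k₁ : ℤ) * d + n) y₁) (s),
      s = frac ℬ 𝒩 hg n k₁ hy₁ → G (y s) = G y₁ := by
    intro k₁ y₁ hy₁ s e
    obtain ⟨j, hj⟩ := exists_pow_smul_eq_of_frac_eq ℬ hg hd (hy s) hy₁ ((hs s).symm.trans e)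
    rw [← hpow (j + k₁) _ _ (hy s), hj, hpow _ k₁ _ hy₁]
  let L : Γ(GrMod.tilde ℬ 𝒩 n, Proj.basicOpen ℬ (ψ f)) →ₗ[Γ(Proj ℬ, Proj.basicOpen ℬ (ψ f))] Q :=
    { toFun := fun s => G (y s)
      map_add' := fun s t => by
        have h1 := deg_pow_smul ℬ (hy s) (k t) (SetLike.pow_mem_graded (k t) hg)
        have h2 := deg_pow_smul ℬ (hy t) (k s) (SetLike.pow_mem_graded (k s) hg)
        have hsum : Deg 𝒩 (((k t + k s : ℕ) : ℤ) * d + n) (ψ f ^ k s • y t) := h2.congr (by push_cast; ring)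
        have e : s + t = frac ℬ 𝒩 hg n (k t + k s) (h1.add hsum) := by
          rw [frac_add ℬ hg _ h1 hsum]
          congr 1
          · rw [← away_smul_frac ℬ hg (k t) (SetLike.pow_mem_graded (k t) hg) (k s) (hy s), away_pow_eq_one,
              one_smul]
            exact hs s
          · conv_lhs => rw [hs t, ← one_smul Γ(Proj ℬ, Proj.basicOpen ℬ (ψ f)) (frac ℬ 𝒩 hg n (k t) (hy t)),
              ← away_pow_eq_one ℬ hg (k s), away_smul_frac]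
            refine ext_val ℬ 𝒩 fun z => ?_
            rw [val_frac, val_frac]
            congr 1
            exact Subtype.ext (by rw [add_comm])
        rw [hwd _ _ _ _ e, map_add, hpow _ _ _ (hy s), hpow _ _ _ (hy t)]
      map_smul' := fun c s => by
        obtain ⟨l, b, hb, rfl⟩ := exists_eq_away ℬ hg hd c
        have e : away ℬ hg l hb • s = frac ℬ 𝒩 hg n (l + k s) (deg_pow_smul ℬ (hy s) l hb) := by
          conv_lhs => rw [hs s]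
          exact away_smul_frac ℬ hg l hb (k s) (hy s)
        rw [hwd _ _ _ _ e, hG₂ l b hb (k s) _ (hy s), RingHom.id_apply] }
  have hL : ∀ x, L (secMap (Proj.map ψ hψ) (GrMod.comap ψ hψ v hv n) (basicOpen_le_preimage ψ hψ) x) = w x := by
    intro x
    obtain ⟨k₁, m, hm, rfl⟩ := exists_eq_frac 𝒜 hf hd (ℳ := ℳ) (n := n) x
    exact (hwd k₁ (v m) (deg_v ψ v hv hm) _ (secMap_frac ψ hψ v hv hf k₁ hm)).trans (hG₁ k₁ m hm)
  refine ⟨L, hL, fun L' hL' => LinearMap.ext fun s => ?_⟩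
  have hmem := hspan (k s) (y s) (hy s)
  rw [← hs s] at hmem
  exact LinearMap.eqOn_span (f := L') (g := L) (by rintro _ ⟨x, rfl⟩; rw [hL', hL]) hmem

end Map

end Groth.Agent.AdjunctBC16
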