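import Groth.Agent.AdjunctBC16.Transfer
import Groth.Agent.RelTwistMap16.Glue
import Groth.Agent.RelTildeX.ExistsBase
import Groth.Agent.RelTildeX.Twist

/-!
The morphism `L ⟶ g_* L'` of twisting sheaves on relative `Proj`s over a base morphism, and the base change theorem.
-/

noncomputable section

set_option maxHeartbeats 1000000
set_option autoImplicit false
set_option backward.isDefEq.respectTransparency false
set_option backward.isDefEq.respectTransparency.types false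
set_option linter.style.haveILetI false
set_option linter.unusedSectionVars false

universe u

open CategoryTheory CategoryTheory.Limits AlgebraicGeometry TopologicalSpace Opposite
open scoped HomogeneousIdeal

namespace Groth.Agent.AdjunctBC16.Theta

open Groth.Agent Groth.Agent.RelTildeX.Exists Groth.Agent.RelTwistMap16

variable {Y Y' P P' : Scheme.{u}} (ψ : Y' ⟶ Y) {𝒮 : RelProj.QCGrAlg Y} {𝒮' : RelProj.QCGrAlg Y'}
  (φ : ∀ (U : Y.Opens) (hU : IsAffineOpen U) (U' : Y'.Opens) (hU' : IsAffineOpen U') (_ : U' ≤ ψ ⁻¹ᵁ U),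
    𝒮.deg U hU →+*ᵍ 𝒮'.deg U' hU')
  (hirr : ∀ (U : Y.Opens) (hU : IsAffineOpen U) (U' : Y'.Opens) (hU' : IsAffineOpen U') (hle : U' ≤ ψ ⁻¹ᵁ U),
    (𝒮'.deg U' hU')₊ ≤ ((𝒮.deg U hU)₊).map (φ U hU U' hU' hle))
  {p : P ⟶ Y}
  (chart : ∀ (U : Y.Opens) (hU : IsAffineOpen U), (((p ⁻¹ᵁ U : P.Opens) : Scheme.{u}) ≅ Proj (𝒮.deg U hU)))
  {p' : P' ⟶ Y'}
  (chart' : ∀ (U' : Y'.Opens) (hU' : IsAffineOpen U'), (((p' ⁻¹ᵁ U' : P'.Opens) : Scheme.{u}) ≅ Proj (𝒮'.deg U' hU')))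
  (g : P' ⟶ P) {n : ℤ} {L : P.Modules}
  (lam : ∀ (U : Y.Opens) (hU : IsAffineOpen U),
    L ⟶ (Scheme.Modules.pushforward (RelProj.emb p chart U hU)).obj (GrTwist.twist (𝒮.deg U hU) n))
  {L' : P'.Modules}
  (lam' : ∀ (U' : Y'.Opens) (hU' : IsAffineOpen U'),
    L' ⟶ (Scheme.Modules.pushforward (RelProj.emb p' chart' U' hU')).obj (GrTwist.twist (𝒮'.deg U' hU') n))

/-- The hypotheses. -/
structure Data : Prop where
  proj : RelProj.IsRelProj 𝒮 p chart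
  proj' : RelProj.IsRelProj 𝒮' p' chart'
  twist : RelProj.IsRelTwist 𝒮 p chart n L lam
  twist' : RelProj.IsRelTwist 𝒮' p' chart' n L' lam'
  comm : ∀ (U : Y.Opens) (hU : IsAffineOpen U) (U' : Y'.Opens) (hU' : IsAffineOpen U') (hle : U' ≤ ψ ⁻¹ᵁ U),
    RelProj.emb p' chart' U' hU' ≫ g = Proj.map (φ U hU U' hU' hle) (hirr U hU U' hU' hle) ≫ RelProj.emb p chart U hU
  res : ∀ (U : Y.Opens) (hU : IsAffineOpen U) (D : Y.Opens) (hD : IsAffineOpen D) (i : D ≤ U)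
    (U' : Y'.Opens) (hU' : IsAffineOpen U') (D' : Y'.Opens) (hD' : IsAffineOpen D') (i' : D' ≤ U')
    (hle : U' ≤ ψ ⁻¹ᵁ U) (hle' : D' ≤ ψ ⁻¹ᵁ D) (a : 𝒮.presheaf.obj (op U)),
    φ D hD D' hD' hle' (𝒮.res hU hD i a) = 𝒮'.res hU' hD' i' (φ U hU U' hU' hle a)

/-- The defining equation on one pair of charts. -/
def Rel (U : Y.Opens) (hU : IsAffineOpen U) (U' : Y'.Opens) (hU' : IsAffineOpen U') (hle : U' ≤ ψ ⁻¹ᵁ U)
    {W : P.Opens} (s : Γ(L, W)) {W' : P'.Opens} (t : Γ(L', W')) : Prop :=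
  ∀ (y : ProjectiveSpectrum (𝒮'.deg U' hU')) (hy : (RelProj.emb p' chart' U' hU').base y ∈ W')
    (hy' : (RelProj.emb p chart U hU).base
      (ProjectiveSpectrum.comap (φ U hU U' hU' hle) (hirr U hU U' hU' hle) y) ∈ W),
    GrTwist.val (V := RelProj.emb p' chart' U' hU' ⁻¹ᵁ W') ((lam' U' hU').app W' t) ⟨y, hy⟩ =
      GrTwist.locMap (φ U hU U' hU' hle) (hirr U hU U' hU' hle) y
        (GrTwist.val (V := RelProj.emb p chart U hU ⁻¹ᵁ W) ((lam U hU).app W s) ⟨_, hy'⟩)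

variable {ψ φ hirr chart chart' g lam lam'}
variable (H : Data ψ φ hirr chart chart' g lam lam')

include H in
theorem emb_mem {U : Y.Opens} (hU : IsAffineOpen U) {U' : Y'.Opens} (hU' : IsAffineOpen U') (hle : U' ≤ ψ ⁻¹ᵁ U)
    {W : P.Opens} {y : ProjectiveSpectrum (𝒮'.deg U' hU')}
    (hy : (RelProj.emb p' chart' U' hU').base y ∈ g ⁻¹ᵁ W) :
    (RelProj.emb p chart U hU).base
      (ProjectiveSpectrum.comap (φ U hU U' hU' hle) (hirr U hU U' hU' hle) y) ∈ W := by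
  have e := congrArg (fun m : Proj (𝒮'.deg U' hU') ⟶ P => m.base y) (H.comm U hU U' hU' hle)
  exact (show _ = _ from e) ▸ hy

theorem Rel.res {U : Y.Opens} {hU : IsAffineOpen U} {U' : Y'.Opens} {hU' : IsAffineOpen U'} {hle : U' ≤ ψ ⁻¹ᵁ U}
    {W : P.Opens} {s : Γ(L, W)} {W' W'' : P'.Opens} {t : Γ(L', W')} (i : W'' ≤ W')
    (ht : Rel ψ φ hirr chart chart' lam lam' U hU U' hU' hle s t) :
    Rel ψ φ hirr chart chart' lam lam' U hU U' hU' hle s (L'.presheaf.map (homOfLE i).op t) := by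
  intro y hy hy'
  refine Eq.trans ?_ (ht y (i hy) hy')
  rw [QCoh.map_app_comm]
  rfl

include H in
theorem rel_unique {U : Y.Opens} {hU : IsAffineOpen U} {U' : Y'.Opens} {hU' : IsAffineOpen U'} {hle : U' ≤ ψ ⁻¹ᵁ U}
    {W : P.Opens} {s : Γ(L, W)} {W' : P'.Opens} (hW' : W' ≤ g ⁻¹ᵁ W) (hW'U : W' ≤ p' ⁻¹ᵁ U') {t t' : Γ(L', W')}
    (ht : Rel ψ φ hirr chart chart' lam lam' U hU U' hU' hle s t)
    (ht' : Rel ψ φ hirr chart chart' lam lam' U hU U' hU' hle s t') : t = t' :=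
  (H.twist'.bijective U' hU' W' hW'U).1 (RelTwistMap16.ext_val fun ⟨y, hy⟩ =>
    (ht y hy (emb_mem H hU hU' hle (hW' hy))).trans (ht' y hy (emb_mem H hU hU' hle (hW' hy))).symm)

include H in
theorem exists_local {U : Y.Opens} (hU : IsAffineOpen U) {U' : Y'.Opens} (hU' : IsAffineOpen U')
    (hle : U' ≤ ψ ⁻¹ᵁ U) {W : P.Opens} (s : Γ(L, W)) {W' : P'.Opens}
    (hW' : W' ≤ g ⁻¹ᵁ W) (hW'U : W' ≤ p' ⁻¹ᵁ U') :
    ∃ t : Γ(L', W'), Rel ψ φ hirr chart chart' lam lam' U hU U' hU' hle s t := by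
  obtain ⟨t, ht⟩ := (H.twist'.bijective U' hU' W' hW'U).2
    (GrTwist.comapApp (φ U hU U' hU' hle) (hirr U hU U' hU' hle) n (RelProj.emb p chart U hU ⁻¹ᵁ W)
      (RelProj.emb p' chart' U' hU' ⁻¹ᵁ W') (fun y hy => emb_mem H hU hU' hle (hW' hy)) ((lam U hU).app W s))
  refine ⟨t, fun y hy hy' => ?_⟩
  rw [ht]
  exact GrTwist.comapApp_apply_coe _ _ _ _ _ _ _ ⟨y, hy⟩

include H in
/-- The equation passes to smaller charts. -/
theorem Rel.down {U : Y.Opens} {hU : IsAffineOpen U} {U' : Y'.Opens} {hU' : IsAffineOpen U'} {hle : U' ≤ ψ ⁻¹ᵁ U}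
    {D : Y.Opens} (hD : IsAffineOpen D) (hb : IsBasic U D) {D' : Y'.Opens} (hD' : IsAffineOpen D')
    (hb' : IsBasic U' D') (hle' : D' ≤ ψ ⁻¹ᵁ D) {W : P.Opens} {s : Γ(L, W)} {W' : P'.Opens}
    (hW' : W' ≤ g ⁻¹ᵁ W) {t : Γ(L', W')}
    (ht : Rel ψ φ hirr chart chart' lam lam' U hU U' hU' hle s t) :
    Rel ψ φ hirr chart chart' lam lam' D hD D' hD' hle' s t := by
  intro y hy hy'
  obtain ⟨r, rfl⟩ := hb
  obtain ⟨r', rfl⟩ := hb'
  have heq := H.res U hU _ (hU.basicOpen r) (Y.basicOpen_le r) U' hU' _ (hU'.basicOpen r') (Y'.basicOpen_le r')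
    hle hle'
  have hy2 : (RelProj.emb p' chart' U' hU').base (ProjectiveSpectrum.comap
      (𝒮'.res hU' (hU'.basicOpen r') (Y'.basicOpen_le r')) (𝒮'.irrelevant_le_map U' hU' r') y) ∈ W' := by
    have h2 := congrArg (fun m : Proj (𝒮'.deg (Y'.basicOpen r') (hU'.basicOpen r')) ⟶ P' => m.base y)
      (RelProj.map_res_emb H.proj' U' hU' r')
    exact (show _ = _ from h2).symm ▸ hy
  have hy2' := emb_mem H hU hU' hle (hW' hy2)
  have hz : (RelProj.emb p chart U hU).base (ProjectiveSpectrum.comap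
      (𝒮.res hU (hU.basicOpen r) (Y.basicOpen_le r)) (𝒮.irrelevant_le_map U hU r)
      (ProjectiveSpectrum.comap (φ _ (hU.basicOpen r) _ (hU'.basicOpen r') hle')
        (hirr _ (hU.basicOpen r) _ (hU'.basicOpen r') hle') y)) ∈ W := by
    have h2 := congrArg (fun m : Proj (𝒮.deg (Y.basicOpen r) (hU.basicOpen r)) ⟶ P =>
      m.base (ProjectiveSpectrum.comap (φ _ (hU.basicOpen r) _ (hU'.basicOpen r') hle')
        (hirr _ (hU.basicOpen r) _ (hU'.basicOpen r') hle') y))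
      (RelProj.map_res_emb H.proj U hU r)
    exact (show _ = _ from h2).symm ▸ hy'
  refine (H.twist'.compat U' hU' r' W' t y hy hy2).trans ?_
  rw [ht _ hy2 hy2', H.twist.compat U hU r W s _ hy' hz]
  exact locMap_square _ _ _ _ _ _ _ _ (fun a => (heq a).symm) y (RelProj.emb p chart U hU ⁻¹ᵁ W)
    (fun x : ↥(RelProj.emb p chart U hU ⁻¹ᵁ W) =>
      GrTwist.val (V := RelProj.emb p chart U hU ⁻¹ᵁ W) ((lam U hU).app W s) x) hy2' hz

theorem exists_common' {U V : Y.Opens} (hU : IsAffineOpen U) (hV : IsAffineOpen V) {U' V' : Y'.Opens}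
    (hU' : IsAffineOpen U') (hV' : IsAffineOpen V') (hle : U' ≤ ψ ⁻¹ᵁ U) (hleV : V' ≤ ψ ⁻¹ᵁ V) {z : Y'}
    (hz : z ∈ U' ⊓ V') :
    ∃ (D : Y.Opens) (_ : IsAffineOpen D) (D' : Y'.Opens) (_ : IsAffineOpen D'),
      IsBasic U D ∧ IsBasic V D ∧ IsBasic U' D' ∧ IsBasic V' D' ∧ D' ≤ ψ ⁻¹ᵁ D ∧ z ∈ D' := by
  obtain ⟨D, hD, hb, hbV, hxD⟩ := exists_common hU hV (x := ψ z) ⟨hle hz.1, hleV hz.2⟩
  obtain ⟨D₀, hD₀, hb0, hb0V, hz0⟩ := exists_common hU' hV' hz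
  obtain ⟨r, hr, hzr⟩ := hD₀.exists_basicOpen_le (V := ψ ⁻¹ᵁ D) ⟨z, hxD⟩ hz0
  exact ⟨D, hD, Y'.basicOpen r, hD₀.basicOpen r, hb, hbV, hb0.trans hU' ⟨r, rfl⟩, hb0V.trans hV' ⟨r, rfl⟩, hr, hzr⟩

include H in
theorem rel_all {U : Y.Opens} {hU : IsAffineOpen U} {U' : Y'.Opens} {hU' : IsAffineOpen U'} {hle : U' ≤ ψ ⁻¹ᵁ U}
    {W : P.Opens} {s : Γ(L, W)} {W' : P'.Opens} (hW' : W' ≤ g ⁻¹ᵁ W) (hW'U : W' ≤ p' ⁻¹ᵁ U') {t : Γ(L', W')}
    (ht : Rel ψ φ hirr chart chart' lam lam' U hU U' hU' hle s t)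
    {V : Y.Opens} (hV : IsAffineOpen V) {V' : Y'.Opens} (hV' : IsAffineOpen V') (hleV : V' ≤ ψ ⁻¹ᵁ V) :
    Rel ψ φ hirr chart chart' lam lam' V hV V' hV' hleV s t := by
  intro y hy hy'
  have hxV : (RelProj.emb p' chart' V' hV').base y ∈ p' ⁻¹ᵁ V' := by
    rw [← RelTildeX.opensRange_emb p' chart' V' hV']; exact ⟨y, rfl⟩
  obtain ⟨D, hD, D', hD', hb, hbV, hb', hbV', hle', hzD'⟩ :=
    exists_common' hU hV hU' hV' hle hleV ⟨hW'U hy, hxV⟩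
  let W'' : P'.Opens := W' ⊓ p' ⁻¹ᵁ D'
  have hW''V : W'' ≤ p' ⁻¹ᵁ V' := inf_le_right.trans (p'.preimage_mono hbV'.le)
  obtain ⟨t'', ht''⟩ := exists_local H hV hV' hleV s (W' := W'') (inf_le_left.trans hW') hW''V
  have h1 := Rel.down H hD hb hD' hb' hle' (W' := W'') (inf_le_left.trans hW') (ht.res inf_le_left)
  have h2 := Rel.down H hD hbV hD' hbV' hle' (W' := W'') (inf_le_left.trans hW') ht''
  have heq := rel_unique H (inf_le_left.trans hW') inf_le_right h2 h1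
  have h3 := ht'' y ⟨hy, hzD'⟩ hy'
  rw [heq, QCoh.map_app_comm] at h3
  exact h3

variable (ψ) in
/-- Pairs of affine opens over each other. -/
abbrev Pr : Type u := {q : Y.affineOpens × Y'.affineOpens // q.2.1 ≤ ψ ⁻¹ᵁ q.1.1}

theorem exists_pr (x : P') : ∃ q : Pr ψ, x ∈ p' ⁻¹ᵁ q.1.2.1 := by
  obtain ⟨_, ⟨U, hU, rfl⟩, hxU, -⟩ := Y.isBasis_affineOpens.exists_subset_of_mem_open
    (Set.mem_univ (ψ (p' x))) isOpen_univ
  obtain ⟨U', hU', hxU', hle⟩ := exists_isAffineOpen_mem_and_subset (X := Y') (x := p' x) (U := ψ ⁻¹ᵁ U) hxU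
  exact ⟨⟨(⟨U, hU⟩, ⟨U', hU'⟩), hle⟩, hxU'⟩

/-- The equation over all pairs of charts. -/
def RelAll (lam : ∀ (U : Y.Opens) (hU : IsAffineOpen U),
      L ⟶ (Scheme.Modules.pushforward (RelProj.emb p chart U hU)).obj (GrTwist.twist (𝒮.deg U hU) n))
    (lam' : ∀ (U' : Y'.Opens) (hU' : IsAffineOpen U'),
      L' ⟶ (Scheme.Modules.pushforward (RelProj.emb p' chart' U' hU')).obj (GrTwist.twist (𝒮'.deg U' hU') n))
    (hirr : ∀ (U : Y.Opens) (hU : IsAffineOpen U) (U' : Y'.Opens) (hU' : IsAffineOpen U') (hle : U' ≤ ψ ⁻¹ᵁ U),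
      (𝒮'.deg U' hU')₊ ≤ ((𝒮.deg U hU)₊).map (φ U hU U' hU' hle))
    {W : P.Opens} (s : Γ(L, W)) {W' : P'.Opens} (t : Γ(L', W')) : Prop :=
  ∀ (U : Y.Opens) (hU : IsAffineOpen U) (U' : Y'.Opens) (hU' : IsAffineOpen U') (hle : U' ≤ ψ ⁻¹ᵁ U),
    Rel ψ φ hirr chart chart' lam lam' U hU U' hU' hle s t

include H in
theorem exists_global {W : P.Opens} (s : Γ(L, W)) :
    ∃! t : Γ(L', g ⁻¹ᵁ W), RelAll lam lam' hirr s t := by
  refine existsUnique_of_exists_of_unique ?_ fun t t' ht ht' => sub_eq_zero.1 (QCoh.eq_zero_of_locally _ _ fun x hx => ?_)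
  · have hloc : ∀ q : Pr ψ, ∃ t : Γ(L', g ⁻¹ᵁ W ⊓ p' ⁻¹ᵁ q.1.2.1), RelAll lam lam' hirr s t := fun q => by
      obtain ⟨t, ht⟩ := exists_local H q.1.1.2 q.1.2.2 q.2 s (W' := g ⁻¹ᵁ W ⊓ p' ⁻¹ᵁ q.1.2.1) inf_le_left inf_le_right
      exact ⟨t, fun V hV V' hV' hle => rel_all H inf_le_left inf_le_right ht hV hV' hle⟩
    choose t ht using hloc
    obtain ⟨T, hT, -⟩ := TopCat.Sheaf.existsUnique_gluing' ⟨L'.presheaf, L'.isSheaf⟩
      (fun q : Pr ψ => g ⁻¹ᵁ W ⊓ p' ⁻¹ᵁ q.1.2.1) (g ⁻¹ᵁ W) (fun _ => homOfLE inf_le_left)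
      (fun x hx => by
        obtain ⟨q, hq⟩ := exists_pr (ψ := ψ) (p' := p') x
        exact Opens.mem_iSup.2 ⟨q, hx, hq⟩) t
      (fun q q' => rel_unique H (U := q.1.1.1) (hU := q.1.1.2) (U' := q.1.2.1) (hU' := q.1.2.2) (hle := q.2) (s := s)
        (inf_le_left.trans inf_le_left) (inf_le_left.trans inf_le_right)
        ((ht q _ _ _ _ _).res inf_le_left) ((ht q' _ _ _ _ _).res inf_le_right))
    refine ⟨T, fun V hV V' hV' hleV y hy hy' => ?_⟩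
    obtain ⟨q, hq⟩ := exists_pr (ψ := ψ) (p' := p') ((RelProj.emb p' chart' V' hV').base y)
    have h3 := ht q V hV V' hV' hleV y ⟨hy, hq⟩ hy'
    rw [show t q = L'.presheaf.map (homOfLE inf_le_left).op T from (hT q).symm, QCoh.map_app_comm] at h3
    exact h3
  · obtain ⟨q, hq⟩ := exists_pr (ψ := ψ) (p' := p') x
    refine ⟨g ⁻¹ᵁ W ⊓ p' ⁻¹ᵁ q.1.2.1, homOfLE inf_le_left, ⟨hx, hq⟩, ?_⟩
    rw [map_sub, sub_eq_zero]
    exact rel_unique H (hle := q.2) inf_le_left inf_le_right ((ht _ q.1.1.2 _ q.1.2.2 q.2).res inf_le_left)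
      ((ht' _ q.1.1.2 _ q.1.2.2 q.2).res inf_le_left)

theorem appLE_val {A σ : Type u} [CommRing A] [SetLike σ A] [AddSubgroupClass σ A] {𝒢 : ℕ → σ} [GradedRing 𝒢]
    {B σ' : Type u} [CommRing B] [SetLike σ' B] [AddSubgroupClass σ' B] {ℋ : ℕ → σ'} [GradedRing ℋ]
    (χ : 𝒢 →+*ᵍ ℋ) (hχ : ℋ₊ ≤ (𝒢₊).map χ) {Z Z' : Scheme.{u}} (e : Proj 𝒢 ⟶ Z) (e' : Proj ℋ ⟶ Z') (g : Z' ⟶ Z)
    (hc : e' ≫ g = Proj.map χ hχ ≫ e) (W : Z.Opens) (c : Γ(Z, W)) (y : ProjectiveSpectrum ℋ)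
    (hy : e'.base y ∈ g ⁻¹ᵁ W) (hy' : e.base (ProjectiveSpectrum.comap χ hχ y) ∈ W) :
    ((show GrTwist.O (𝒜 := ℋ) (op (e' ⁻¹ᵁ (g ⁻¹ᵁ W))) from e'.app (g ⁻¹ᵁ W) (g.app W c)).1 ⟨y, hy⟩).val =
      GrTwist.locMap χ hχ y ((show GrTwist.O (𝒜 := 𝒢) (op (e ⁻¹ᵁ W)) from e.app W c).1 ⟨_, hy'⟩).val := by
  let V : (Proj ℋ).Opens := e' ⁻¹ᵁ (g ⁻¹ᵁ W)
  have hV : V ≤ Proj.map χ hχ ⁻¹ᵁ (e ⁻¹ᵁ W) := fun z hz => by
    show e (Proj.map χ hχ z) ∈ W
    rw [← Scheme.Hom.comp_apply, ← hc, Scheme.Hom.comp_apply]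
    exact hz
  have he := congrArg (fun m => (ConcreteCategory.hom m) c) (appLE_congr hc W V le_rfl (hV.trans le_rfl))
  rw [Scheme.Hom.comp_appLE, Scheme.Hom.comp_appLE, Scheme.Hom.appLE_eq_app] at he
  refine Eq.trans (congrArg (fun z : GrTwist.O (𝒜 := ℋ) (op V) => (z.1 ⟨y, hy⟩).val) he) ?_
  exact HomogeneousLocalization.val_localRingHom _

include H in
theorem existsUnique_theta :
    ∃! θ : L ⟶ (Scheme.Modules.pushforward g).obj L',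
      ∀ (W : P.Opens) (s : Γ(L, W)), RelAll lam lam' hirr s (W' := g ⁻¹ᵁ W) (θ.app W s) := by
  have hex := fun (W : P.Opens) (s : Γ(L, W)) => exists_global H s
  choose t ht htu using hex
  let θ : L ⟶ (Scheme.Modules.pushforward g).obj L' :=
    ⟨PresheafOfModules.homMk
      { app := fun W => AddCommGrpCat.ofHom (AddMonoidHom.mk' (t W.unop) fun s s' =>
          (htu W.unop (s + s') _ fun U hU U' hU' hle y hy hy' => by
            rw [RelTwistMap16.val_add _ (lam U hU) s s' _ hy', RelTwistMap16.val_add _ (lam' U' hU') _ _ _ hy,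
              ht W.unop s U hU U' hU' hle y hy hy', ht W.unop s' U hU U' hU' hle y hy hy']
            exact (map_add _ _ _).symm).symm)
        naturality := fun V W i => by
          ext s
          refine (htu W.unop (L.presheaf.map i s) _ fun U hU U' hU' hle y hy hy' => ?_).symm
          exact (RelTwistMap16.val_map (X := P) _ (lam' U' hU') (g.preimage_mono i.unop.le) _ y hy
            (g.preimage_mono i.unop.le hy)).trans
            ((ht V.unop s U hU U' hU' hle y (g.preimage_mono i.unop.le hy) (i.unop.le hy')).trans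
              (congrArg (GrTwist.locMap _ _ y)
                (RelTwistMap16.val_map (X := P) _ (lam U hU) i.unop.le s _ hy' (i.unop.le hy')).symm)) }
      fun W c s => ((htu W.unop (c • s) (show Γ(L', g ⁻¹ᵁ W.unop) from g.app W.unop c • t W.unop s)
        fun U hU U' hU' hle y hy hy' => by
          rw [RelTwistMap16.val_smul _ (lam U hU) c s _ hy', RelTwistMap16.val_smul _ (lam' U' hU') _ _ _ hy,
            ht W.unop s U hU U' hU' hle y hy hy']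
          refine Eq.trans ?_ (map_mul _ _ _).symm
          exact congrArg (· * _) (appLE_val _ (hirr U hU U' hU' hle) _ _ g (H.comm U hU U' hU' hle) W.unop c y hy hy'))).symm⟩
  refine ⟨θ, fun W s => ht W s, fun θ' hθ' => Scheme.Modules.hom_ext _ _ fun W => ?_⟩
  ext s
  exact htu W s (θ'.app W s) (hθ' W s)

theorem compat_chart (U : Y.Opens) (hU : IsAffineOpen U) (U' : Y'.Opens) (hU' : IsAffineOpen U')
    (hle : U' ≤ ψ ⁻¹ᵁ U) {θ : L ⟶ (Scheme.Modules.pushforward g).obj L'}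
    (hθ : ∀ (W : P.Opens) (s : Γ(L, W)), RelAll lam lam' hirr s (W' := g ⁻¹ᵁ W) (θ.app W s))
    {f : 𝒮.presheaf.obj (op U)}
    (hD : Proj.basicOpen (𝒮'.deg U' hU') (φ U hU U' hU' hle f) ≤
      Proj.map (φ U hU U' hU' hle) (hirr U hU U' hU' hle) ⁻¹ᵁ Proj.basicOpen (𝒮.deg U hU) f)
    (hW : RelProj.emb p' chart' U' hU' ''ᵁ Proj.basicOpen (𝒮'.deg U' hU') (φ U hU U' hU' hle f) ≤
      g ⁻¹ᵁ (RelProj.emb p chart U hU ''ᵁ Proj.basicOpen (𝒮.deg U hU) f))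
    (s : Γ(L, RelProj.emb p chart U hU ''ᵁ Proj.basicOpen (𝒮.deg U hU) f)) :
    chartSec (RelProj.emb p' chart' U' hU') (lam' U' hU') ((RelProj.emb p' chart' U' hU').preimage_image_eq _).ge
        (secMap g θ hW s) =
      secMap (Proj.map (φ U hU U' hU' hle) (hirr U hU U' hU' hle))
        (GrTwist.comap (φ U hU U' hU' hle) (hirr U hU U' hU' hle) n) hD
        (chartSec (RelProj.emb p chart U hU) (lam U hU) ((RelProj.emb p chart U hU).preimage_image_eq _).ge s) := by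
  refine RelTwistMap16.ext_val fun ⟨y, hy⟩ => ?_
  have hy1 : (RelProj.emb p' chart' U' hU').base y ∈
      RelProj.emb p' chart' U' hU' ''ᵁ Proj.basicOpen (𝒮'.deg U' hU') (φ U hU U' hU' hle f) :=
    ⟨y, hy, rfl⟩
  have hy' : (RelProj.emb p chart U hU).base
      (ProjectiveSpectrum.comap (φ U hU U' hU' hle) (hirr U hU U' hU' hle) y) ∈
      RelProj.emb p chart U hU ''ᵁ Proj.basicOpen (𝒮.deg U hU) f := ⟨_, hD hy, rfl⟩
  refine Eq.trans ?_ (GrTwist.comap_app_val (φ U hU U' hU' hle) (hirr U hU U' hU' hle) n _ _ ⟨y, hD hy⟩).symm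
  refine Eq.trans ?_ ((hθ _ s U hU U' hU' hle y (hW hy1) hy').trans (congrArg _ ?_))
  · exact RelTwistMap16.val_map (X := P') _ (lam' U' hU') hW _ y hy1 (hW hy1)
  · rfl

include H in
/-- The twisting sheaf pulls back to the twisting sheaf, given the base change property in the charts. -/
theorem nonempty_pullback_iso
    (hbc : ∀ (U : Y.Opens) (hU : IsAffineOpen U) (U' : Y'.Opens) (hU' : IsAffineOpen U') (hle : U' ≤ ψ ⁻¹ᵁ U)
      (d : ℕ) (f : 𝒮.presheaf.obj (op U)) (_ : 0 < d) (_ : f ∈ 𝒮.deg U hU d),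
      IsBC ((Proj.map (φ U hU U' hU' hle) (hirr U hU U' hU' hle)).appLE (Proj.basicOpen (𝒮.deg U hU) f)
          (Proj.basicOpen (𝒮'.deg U' hU') (φ U hU U' hU' hle f)) (basicOpen_le_preimage _ _)).hom
        (secMap (Proj.map (φ U hU U' hU' hle) (hirr U hU U' hU' hle))
          (GrTwist.comap (φ U hU U' hU' hle) (hirr U hU U' hU' hle) n) (V := Proj.basicOpen (𝒮.deg U hU) f)
          (basicOpen_le_preimage _ _))) :
    Nonempty ((Scheme.Modules.pullback g).obj L ≅ L') := by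
  obtain ⟨θ, hθ, -⟩ := existsUnique_theta H
  let I := Σ q : Pr ψ, {pf : ℕ × 𝒮.presheaf.obj (op q.1.1.1) // 0 < pf.1 ∧ pf.2 ∈ 𝒮.deg q.1.1.1 q.1.1.2 pf.1}
  let V : I → P.Opens := fun i => RelProj.emb p chart i.1.1.1.1 i.1.1.1.2 ''ᵁ Proj.basicOpen _ i.2.1.2
  let W : I → P'.Opens := fun i => RelProj.emb p' chart' i.1.1.2.1 i.1.1.2.2 ''ᵁ
    Proj.basicOpen _ (φ i.1.1.1.1 i.1.1.1.2 i.1.1.2.1 i.1.1.2.2 i.1.2 i.2.1.2)
  have hV : ∀ i, IsAffineOpen (V i) := fun i =>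
    (Proj.isAffineOpen_basicOpen _ _ i.2.2.2 i.2.2.1).image_of_isOpenImmersion _
  have hW : ∀ i, IsAffineOpen (W i) := fun i =>
    (Proj.isAffineOpen_basicOpen _ _ ((φ i.1.1.1.1 i.1.1.1.2 i.1.1.2.1 i.1.1.2.2 i.1.2).map_mem i.2.2.2)
      i.2.2.1).image_of_isOpenImmersion _
  have hWV : ∀ i, W i ≤ g ⁻¹ᵁ V i := by
    rintro i _ ⟨y, hy, rfl⟩
    refine ⟨_, basicOpen_le_preimage _ (hirr i.1.1.1.1 i.1.1.1.2 i.1.1.2.1 i.1.1.2.2 i.1.2) hy, ?_⟩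
    exact (congrArg (fun m : Proj (𝒮'.deg i.1.1.2.1 i.1.1.2.2) ⟶ P => m.base y)
      (H.comm i.1.1.1.1 i.1.1.1.2 i.1.1.2.1 i.1.1.2.2 i.1.2)).symm
  haveI := isIso_adjunct g θ (RelTildeX.isQCoh_twist H.twist) (RelTildeX.isQCoh_twist H.twist') V W hV hW hWV
    (fun x => by
      obtain ⟨q, hq⟩ := exists_pr (ψ := ψ) (p' := p') x
      obtain ⟨y, rfl⟩ : x ∈ (RelProj.emb p' chart' q.1.2.1 q.1.2.2).opensRange := by
        rw [RelTildeX.opensRange_emb]; exact hq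
      obtain ⟨d, f, hd, hf, hfy⟩ := exists_mem_basicOpen_map (φ q.1.1.1 q.1.1.2 q.1.2.1 q.1.2.2 q.2) y
        (hirr q.1.1.1 q.1.1.2 q.1.2.1 q.1.2.2 q.2)
      exact ⟨⟨q, ⟨(d, f), hd, hf⟩⟩, y, hfy, rfl⟩)
    (fun i => isBC_of_charts (RelProj.emb p chart i.1.1.1.1 i.1.1.1.2) (lam i.1.1.1.1 i.1.1.1.2)
      (RelProj.emb p' chart' i.1.1.2.1 i.1.1.2.2)
      (Proj.map (φ i.1.1.1.1 i.1.1.1.2 i.1.1.2.1 i.1.1.2.2 i.1.2) (hirr i.1.1.1.1 i.1.1.1.2 i.1.1.2.1 i.1.1.2.2 i.1.2)) g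
      (H.comm i.1.1.1.1 i.1.1.1.2 i.1.1.2.1 i.1.1.2.2 i.1.2) (lam' i.1.1.2.1 i.1.1.2.2)
      (fun O hO => H.twist.bijective _ _ O ((RelTildeX.opensRange_emb p chart _ _).le.trans' hO))
      (fun O hO => H.twist'.bijective _ _ O ((RelTildeX.opensRange_emb p' chart' _ _).le.trans' hO))
      θ _ (basicOpen_le_preimage _ _) (hWV i)
      (fun s => compat_chart i.1.1.1.1 i.1.1.1.2 i.1.1.2.1 i.1.1.2.2 i.1.2 hθ (basicOpen_le_preimage _ _) (hWV i) s)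
      (hbc i.1.1.1.1 i.1.1.1.2 i.1.1.2.1 i.1.1.2.2 i.1.2 i.2.1.1 i.2.1.2 i.2.2.1 i.2.2.2))
  exact ⟨asIso (((Scheme.Modules.pullbackPushforwardAdjunction g).homEquiv _ _).symm θ)⟩

end Groth.Agent.AdjunctBC16.Theta
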