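import Groth.Agent.AdjunctBC16.BaseRing
import Groth.Prelude.Def_RelProj2

/-!
# Transfer of the base change criterion along open immersions; the frozen twisting sheaves
-/

set_option autoImplicit false
set_option backward.isDefEq.respectTransparency false
set_option backward.isDefEq.respectTransparency.types false
universe u
open CategoryTheory AlgebraicGeometry TopologicalSpace Opposite
open scoped HomogeneousIdeal
open HomogeneousLocalization (Away)

noncomputable section

namespace Groth.Agent.AdjunctBC16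

open Groth.Agent Groth.Agent.GrModX

section Twist
variable {A σ : Type u} [CommRing A] [SetLike σ A] [AddSubgroupClass σ A] {𝒜 : ℕ → σ} [GradedRing 𝒜]
  {B σ' : Type u} [CommRing B] [SetLike σ' B] [AddSubgroupClass σ' B] {ℬ : ℕ → σ'} [GradedRing ℬ]
  (φ : 𝒜 →+*ᵍ ℬ) (hφ : ℬ₊ ≤ (𝒜₊).map φ)

theorem locMap_eq (y : ProjectiveSpectrum ℬ) (q : GrTwist.Loc 𝒜 (ProjectiveSpectrum.comap φ hφ y)) :
    GrTwist.locMap φ hφ y q = GrMod.locModMap φ hφ (semiSelf φ) y q := by
  induction q using Localization.induction_on with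
  | H p => rw [GrTwist.locMap_mk]; rfl

set_option maxHeartbeats 3000000 in
theorem twist_secMap_eq {n : ℤ} {D : (Proj 𝒜).Opens} {D' : (Proj ℬ).Opens} (hle : D' ≤ Proj.map φ hφ ⁻¹ᵁ D)
    (s : Γ(GrMod.tilde 𝒜 𝒜 n, D)) (y : D') :
    GrTwist.val (n := n) (secMap (Proj.map φ hφ) (GrTwist.comap φ hφ n) (V := D) hle (show Γ(GrTwist.twist 𝒜 n, D) from s)) y =
      GrMod.val (secMap (Proj.map φ hφ) (GrMod.comap φ hφ (semiSelf φ) (semiSelf_mem φ) n) hle s) y := by
  refine (GrTwist.comap_app_val φ hφ n D _ ⟨y.1, hle y.2⟩).trans ?_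
  refine Eq.trans ?_ (GrMod.comap_app_val φ hφ (semiSelf φ) (semiSelf_mem φ) n D s ⟨y.1, hle y.2⟩).symm
  exact locMap_eq φ hφ y.1 _

set_option maxHeartbeats 3000000 in
/-- The criterion of `isBC_comap_of_baseRing`, for the frozen twisting sheaves and their comparison map. -/
theorem isBC_twistComap {R R' : Type u} [CommRing R] [CommRing R'] [Algebra R A] [Algebra R' B] (ι : R →+* R')
    (hA : ∀ r, algebraMap R A r ∈ 𝒜 0) (hB : ∀ r, algebraMap R' B r ∈ ℬ 0)
    (hι : ∀ r, φ (algebraMap R A r) = algebraMap R' B (ι r)) (hbc : IsBC ι φ.toRingHom.toAddMonoidHom)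
    {d : ℕ} {f : A} (hf : f ∈ 𝒜 d) (hd : 0 < d) {n : ℤ} :
    IsBC ((Proj.map φ hφ).appLE (Proj.basicOpen 𝒜 f) (Proj.basicOpen ℬ (φ f)) (basicOpen_le_preimage φ hφ)).hom
      (secMap (Proj.map φ hφ) (GrTwist.comap φ hφ n) (V := Proj.basicOpen 𝒜 f) (basicOpen_le_preimage φ hφ)) := by
  intro Q _ _ w hw
  obtain ⟨L, hL, hu⟩ := isBC_comap_of_baseRing φ hφ ι hA hB hι hbc hf (n := n) hd Q w hw
  have he : ∀ s : Γ(GrMod.tilde 𝒜 𝒜 n, Proj.basicOpen 𝒜 f),
      (show Γ(GrMod.tilde ℬ ℬ n, Proj.basicOpen ℬ (φ f)) from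
        secMap (Proj.map φ hφ) (GrTwist.comap φ hφ n) (V := Proj.basicOpen 𝒜 f) (basicOpen_le_preimage φ hφ) s) =
      secMap (Proj.map φ hφ) (GrMod.comap φ hφ (semiSelf φ) (semiSelf_mem φ) n) (basicOpen_le_preimage φ hφ) s :=
    fun s => ext_val ℬ ℬ fun y => twist_secMap_eq φ hφ (basicOpen_le_preimage φ hφ) s y
  exact ⟨L, fun s => (congrArg L (he s)).trans (hL s), fun L' hL' => hu L' fun s => (congrArg L' (he s)).symm.trans (hL' s)⟩

end Twist

section Transfer

variable {X X' P P' : Scheme.{u}}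

theorem IsBC.transfer {S₁ S₁' S₂ S₂' : Type u} [CommRing S₁] [CommRing S₁'] [CommRing S₂] [CommRing S₂']
    {σ : S₁ →+* S₁'} {τ : S₂ →+* S₂'} (a : S₁ →+* S₂) (a' : S₁' →+* S₂') (ha : Function.Bijective a)
    (ha' : Function.Bijective a') (hsq : ∀ r, a' (σ r) = τ (a r))
    {M₁ P₁ M₂ P₂ : Type u} [AddCommGroup M₁] [Module S₁ M₁] [AddCommGroup P₁] [Module S₁' P₁]
    [AddCommGroup M₂] [Module S₂ M₂] [AddCommGroup P₂] [Module S₂' P₂]
    (b : M₁ →+ M₂) (b' : P₁ →+ P₂) (hb : Function.Bijective b) (hb' : Function.Bijective b')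
    (hbs : ∀ r x, b (r • x) = a r • b x) (hbs' : ∀ r x, b' (r • x) = a' r • b' x)
    {e : M₁ →+ P₁} {e₂ : M₂ →+ P₂} (he : ∀ x, b' (e x) = e₂ (b x)) (h : IsBC τ e₂) : IsBC σ e := by
  intro Q _ _ w hw
  let ai := (RingEquiv.ofBijective a' ha').symm
  letI : Module S₂' Q := Module.compHom Q ai.toRingHom
  let bE := AddEquiv.ofBijective b hb
  let bE' := AddEquiv.ofBijective b' hb'
  have hai : ∀ r, ai (a' r) = r := fun r => (RingEquiv.ofBijective a' ha').symm_apply_apply r
  have hai' : ∀ r, a' (ai r) = r := fun r => (RingEquiv.ofBijective a' ha').apply_symm_apply r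
  obtain ⟨L, hL, hu⟩ := h Q (w.comp bE.symm.toAddMonoidHom) fun r x => by
    obtain ⟨r, rfl⟩ := ha.2 r
    obtain ⟨x, rfl⟩ := hb.2 x
    show w (bE.symm (a r • b x)) = ai (τ (a r)) • w (bE.symm (b x))
    rw [← hbs, ← hsq, hai]
    exact (congrArg w (bE.symm_apply_apply _)).trans
      ((hw r x).trans (congrArg (σ r • w ·) (bE.symm_apply_apply x)).symm)
  let L₁ : P₁ →ₗ[S₁'] Q :=
    { toFun := fun p => L (b' p)
      map_add' := fun p q => by rw [map_add, map_add]
      map_smul' := fun r p => by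
        rw [hbs', map_smul]
        show ai (a' r) • L (b' p) = r • L (b' p)
        rw [hai] }
  refine ⟨L₁, fun x => ?_, fun L' hL' => LinearMap.ext fun p => ?_⟩
  · show L (b' (e x)) = w x
    rw [he, hL]
    exact congrArg w (bE.symm_apply_apply x)
  · let L₂ : P₂ →ₗ[S₂'] Q :=
      { toFun := fun q => L' (bE'.symm q)
        map_add' := fun p q => by rw [map_add, map_add]
        map_smul' := fun r q => by
          show L' (bE'.symm (r • q)) = ai r • L' (bE'.symm q)
          rw [← map_smul]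
          congr 1
          refine bE'.injective ?_
          rw [AddEquiv.apply_symm_apply]
          show r • q = b' (ai r • bE'.symm q)
          rw [hbs', hai']
          exact congrArg (r • ·) (bE'.apply_symm_apply q).symm }
    have hE : L₂ = L := hu L₂ fun x => by
      obtain ⟨x, rfl⟩ := hb.2 x
      show L' (bE'.symm (e₂ (b x))) = w (bE.symm (b x))
      rw [← he]
      exact (congrArg L' (bE'.symm_apply_apply _)).trans ((hL' x).trans (congrArg w (bE.symm_apply_apply x)).symm)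
    show L' p = L (b' p)
    rw [← hE]
    exact (congrArg L' (bE'.symm_apply_apply p)).symm

variable (e : X ⟶ P) [IsOpenImmersion e] {L : P.Modules} {N : X.Modules}
  (l : L ⟶ (Scheme.Modules.pushforward e).obj N)

/-- The ring of the image open, read on the source. -/
def chartRing {D : X.Opens} {V : P.Opens} (hD : D ≤ e ⁻¹ᵁ V) : Γ(P, V) →+* Γ(X, D) := (e.appLE V D hD).hom

/-- Sections over the image open, read on the source. -/
def chartSec {D : X.Opens} {V : P.Opens} (hD : D ≤ e ⁻¹ᵁ V) : Γ(L, V) →+ Γ(N, D) := secMap e l hD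

theorem bijective_chartRing {D : X.Opens} :
    Function.Bijective (chartRing e (D := D) (V := e ''ᵁ D) (e.preimage_image_eq D).ge) := by
  haveI : IsIso (e.appLE (e ''ᵁ D) D (e.preimage_image_eq D).ge) := by
    rw [← Scheme.Hom.appIso_hom' e D]
    infer_instance
  exact ConcreteCategory.bijective_of_isIso (e.appLE (e ''ᵁ D) D (e.preimage_image_eq D).ge)

theorem bijective_chartSec {D : X.Opens} (hl : ∀ W : P.Opens, W ≤ e.opensRange → Function.Bijective (l.app W)) :
    Function.Bijective (chartSec e l (D := D) (V := e ''ᵁ D) (e.preimage_image_eq D).ge) := by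
  have h1 := hl (e ''ᵁ D) (e.image_le_opensRange D)
  have h2 : Function.Bijective (N.presheaf.map (homOfLE (e.preimage_image_eq D).ge).op) := by
    haveI : IsIso (homOfLE (e.preimage_image_eq D).ge) :=
      ⟨homOfLE (e.preimage_image_eq D).le, Subsingleton.elim _ _, Subsingleton.elim _ _⟩
    exact ConcreteCategory.bijective_of_isIso _
  exact h2.comp h1

/-- Transfer of the base change criterion from charts. -/
theorem isBC_of_charts (e' : X' ⟶ P') [IsOpenImmersion e'] (m : X' ⟶ X) (g : P' ⟶ P) (hcomm : e' ≫ g = m ≫ e)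
    {L' : P'.Modules} {N' : X'.Modules} (l' : L' ⟶ (Scheme.Modules.pushforward e').obj N')
    (hl : ∀ W : P.Opens, W ≤ e.opensRange → Function.Bijective (l.app W))
    (hl' : ∀ W : P'.Opens, W ≤ e'.opensRange → Function.Bijective (l'.app W))
    (θ : L ⟶ (Scheme.Modules.pushforward g).obj L') (κ : N ⟶ (Scheme.Modules.pushforward m).obj N')
    {D : X.Opens} {D' : X'.Opens} (hle : D' ≤ m ⁻¹ᵁ D) (hW : e' ''ᵁ D' ≤ g ⁻¹ᵁ (e ''ᵁ D))
    (hcompat : ∀ s : Γ(L, e ''ᵁ D), chartSec e' l' (e'.preimage_image_eq D').ge (secMap g θ hW s) =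
      secMap m κ hle (chartSec e l (e.preimage_image_eq D).ge s))
    (h : IsBC (m.appLE D D' hle).hom (secMap m κ hle)) :
    IsBC (g.appLE (e ''ᵁ D) (e' ''ᵁ D') hW).hom (secMap g θ hW) := by
  refine IsBC.transfer (chartRing e (e.preimage_image_eq D).ge) (chartRing e' (e'.preimage_image_eq D').ge)
    (bijective_chartRing e) (bijective_chartRing e') (fun r => ?_)
    (chartSec e l (e.preimage_image_eq D).ge) (chartSec e' l' (e'.preimage_image_eq D').ge)
    (bijective_chartSec e l hl) (bijective_chartSec e' l' hl')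
    (fun r x => secMap_smul e l _ r x) (fun r x => secMap_smul e' l' _ r x) hcompat h
  have h1 : ∀ (k₁ k₂ : X' ⟶ P) (_ : k₁ = k₂) (a : D' ≤ k₁ ⁻¹ᵁ (e ''ᵁ D)) (b : D' ≤ k₂ ⁻¹ᵁ (e ''ᵁ D)),
      k₁.appLE _ _ a = k₂.appLE _ _ b := by
    rintro k₁ _ rfl a b; rfl
  have h2 := h1 (e' ≫ g) (m ≫ e) hcomm ((e'.preimage_image_eq D').ge.trans (e'.preimage_mono hW))
    (hle.trans (m.preimage_mono (e.preimage_image_eq D).ge))
  rw [← Scheme.Hom.appLE_comp_appLE e' g _ _ _ hW (e'.preimage_image_eq D').ge,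
    ← Scheme.Hom.appLE_comp_appLE m e _ _ _ (e.preimage_image_eq D).ge hle] at h2
  exact ConcreteCategory.congr_hom h2 r

end Transfer

end Groth.Agent.AdjunctBC16
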